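import Cfsg.Agent.H29.CosetCert.Sound
import Cfsg.Prelude.Def_SporCoxeter

/-!
# Relator words of a Coxeter-style presentation
-/

set_option autoImplicit false

namespace H29.CosetCert

open Cfsg.Spor

variable {α : Type} [DecidableEq α] (edges : List (α × ℕ × α)) (extra : List (FreeGroup α))
  (L : List α)

/-- The word `(x y) ^ m(x, y)` in letters numbered along `L`. -/
def pairWord (x y : α) : List ℕ :=
  (List.replicate (coxLabel edges x y) [L.idxOf x, L.idxOf y]).flatten

/-- The generators of the presented group, numbered along `L`. -/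
def genAt (k : ℕ) : CoxPresented α edges extra :=
  (L.map fun x => (PresentedGroup.of x : CoxPresented α edges extra)).getD k 1

/-- Every relator word is a pair word or one of the listed extra words, possibly reversed. -/
def classified (E : List (List ℕ)) (R : List (List ℕ)) : Bool :=
  R.all fun r => r == [] || E.any (fun e => r == e || r == e.reverse) ||
    L.any fun x => L.any fun y => r == pairWord edges L x y || r == (pairWord edges L x y).reverse

/-- Every pair occurs among the first `k` words, in one of the two orders. -/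
def pairsCovered (R : List (List ℕ)) (k : ℕ) : Bool :=
  L.all fun x => L.all fun y => (List.range k).any fun i =>
    R.getD i [] == pairWord edges L x y || R.getD i [] == (pairWord edges L x y).reverse

theorem prod_flatten_replicate {M : Type*} [Monoid M] (p : ℕ → M) (u v : ℕ) :
    ∀ m, (((List.replicate m [u, v]).flatten).map p).prod = (p u * p v) ^ m := by
  intro m
  induction m with
  | zero => simp
  | succ m ih =>
    rw [List.replicate_succ, List.flatten_cons, List.map_append, List.prod_append, ih, pow_succ']
    simp

theorem prod_reverse_of_sq {M : Type*} [Group M] {p : ℕ → M} (hp : ∀ x, p x * p x = 1)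
    (w : List ℕ) : (w.reverse.map p).prod = ((w.map p).prod)⁻¹ := by
  induction w with
  | nil => simp
  | cons x w ih =>
    have hx : (p x)⁻¹ = p x := inv_eq_of_mul_eq_one_right (hp x)
    simp [List.map_append, List.prod_append, ih, hx, -List.map_reverse]

theorem genAt_idx (hL : ∀ x, x ∈ L) (x : α) :
    genAt edges extra L (L.idxOf x) = PresentedGroup.of x := by
  have h := List.idxOf_lt_length_iff.2 (hL x)
  rw [genAt, List.getD_eq_getElem _ _ (by simpa using h), List.getElem_map, List.getElem_idxOf]

theorem genAt_high (k : ℕ) (h : L.length ≤ k) : genAt edges extra L k = 1 := by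
  rw [genAt, List.getD_eq_default _ _ (by simpa using h)]

theorem genAt_sq (hn : ∀ x ∈ L, x ∈ coxNodes edges) (k : ℕ) :
    genAt edges extra L k * genAt edges extra L k = 1 := by
  by_cases h : k < L.length
  · rw [genAt, List.getD_eq_getElem _ _ (by simpa using h), List.getElem_map]
    have hm := hn _ (List.getElem_mem h)
    have h2 : PresentedGroup.mk (coxRelators edges ∪ {r | r ∈ extra})
        ((FreeGroup.of L[k] * FreeGroup.of L[k]) ^ coxLabel edges L[k] L[k]) = 1 :=
      PresentedGroup.one_of_mem (Or.inl ⟨_, hm, _, hm, rfl⟩)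
    simpa [coxLabel, PresentedGroup.of] using h2
  · rw [genAt_high edges extra L k (by omega), one_mul]

theorem genAt_gen (hL : ∀ x, x ∈ L) :
    Subgroup.closure (Set.range (genAt edges extra L)) = ⊤ := by
  rw [eq_top_iff, ← PresentedGroup.closure_range_of (coxRelators edges ∪ {r | r ∈ extra})]
  apply Subgroup.closure_mono
  rintro _ ⟨x, rfl⟩
  exact ⟨L.idxOf x, genAt_idx edges extra L hL x⟩

/-- Classified words are trivial in the presented group. -/
theorem rels_of_classified (hL : ∀ x, x ∈ L) (hn : ∀ x ∈ L, x ∈ coxNodes edges)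
    {E R : List (List ℕ)} (hcl : classified edges L E R = true)
    (hE : ∀ e ∈ E, (e.map (genAt edges extra L)).prod = 1) :
    ∀ r ∈ R, (r.reverse.map (genAt edges extra L)).prod = 1 := by
  intro r hr
  have hsq := genAt_sq edges extra L hn
  rw [prod_reverse_of_sq hsq, inv_eq_one]
  have h := List.all_eq_true.1 hcl r hr
  simp only [Bool.or_eq_true, beq_iff_eq, List.any_eq_true] at h
  have hpair : ∀ x ∈ L, ∀ y ∈ L,
      ((pairWord edges L x y).map (genAt edges extra L)).prod = 1 := by
    intro x hx y hy
    rw [pairWord, prod_flatten_replicate, genAt_idx edges extra L hL, genAt_idx edges extra L hL]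
    have h2 : PresentedGroup.mk (coxRelators edges ∪ {r | r ∈ extra})
        ((FreeGroup.of x * FreeGroup.of y) ^ coxLabel edges x y) = 1 :=
      PresentedGroup.one_of_mem (Or.inl ⟨x, hn x hx, y, hn y hy, rfl⟩)
    simpa [PresentedGroup.of] using h2
  rcases h with (rfl | ⟨e, he, rfl | rfl⟩) | ⟨x, hx, y, hy, rfl | rfl⟩
  · rfl
  · exact hE _ he
  · rw [prod_reverse_of_sq hsq, hE _ he, inv_one]
  · exact hpair x hx y hy
  · rw [prod_reverse_of_sq hsq, hpair x hx y hy, inv_one]

section Perm

variable {n : ℕ} {T : ℕ → ℕ → ℕ}

theorem permWord_eq_one (hT : ∀ x, invOK n (T x) = true) {R : List (List ℕ)} {k : ℕ}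
    (h : ∀ c i, c < n → i < k → runR T (R.getD i []) c = c) {i : ℕ} (hi : i < k) :
    ((R.getD i []).map fun x => permOf n (T x)).prod = 1 := by
  ext c
  rw [runR_val hT, Equiv.Perm.one_apply, h c i c.2 hi]

theorem coxRelators_perm (hL : ∀ x, x ∈ L) (hT : ∀ x, invOK n (T x) = true)
    {R : List (List ℕ)} {k : ℕ} (h : ∀ c i, c < n → i < k → runR T (R.getD i []) c = c)
    (hc : pairsCovered edges L R k = true) (r : FreeGroup α) (hr : r ∈ coxRelators edges) :
    FreeGroup.lift (fun x => permOf n (T (L.idxOf x))) r = 1 := by
  obtain ⟨x, -, y, -, rfl⟩ := hr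
  have h1 := List.all_eq_true.1 (List.all_eq_true.1 hc x (hL x)) y (hL y)
  simp only [List.any_eq_true, List.mem_range, Bool.or_eq_true, beq_iff_eq] at h1
  obtain ⟨i, hi, hw⟩ := h1
  have h2 := permWord_eq_one hT h hi
  have h3 : ((pairWord edges L x y).map fun z => permOf n (T z)).prod = 1 := by
    rcases hw with hw | hw
    · rwa [hw] at h2
    · rw [hw, prod_reverse_of_sq (p := fun z => permOf n (T z)) (fun z => permOf_mul_self _),
        inv_eq_one] at h2
      exact h2
  rw [pairWord, prod_flatten_replicate (fun z => permOf n (T z))] at h3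
  rw [map_pow, map_mul, FreeGroup.lift_apply_of, FreeGroup.lift_apply_of]
  exact h3

end Perm

end H29.CosetCert
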