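import Cfsg.Agent.H29.CosetCert.Check

/-!
# Soundness of coset-enumeration certificates
-/

set_option autoImplicit false

namespace H29.CosetCert

variable {G : Type*} [Group G]

theorem allIn_iff (p : ℕ → Bool) :
    ∀ n lo, allIn p lo n = true ↔ ∀ i, lo ≤ i → i < lo + n → p i = true := by
  intro n
  induction n with
  | zero => intro lo; simp only [allIn, true_iff]; intros; omega
  | succ n ih =>
    intro lo
    simp only [allIn, Bool.and_eq_true, ih (lo + 1)]
    constructor
    · rintro ⟨h1, h2⟩ i hi hi'
      rcases Nat.eq_or_lt_of_le hi with rfl | h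
      · exact h1
      · exact h2 i h (by omega)
    · exact fun h => ⟨h lo le_rfl (by omega), fun i a b => h i (by omega) (by omega)⟩

theorem chkList_get (F : ℕ → ℕ) (R S : List (List ℕ)) :
    ∀ (l : List ℕ) (k : ℕ), chkList F R S l k = true →
      ∀ j, k ≤ j → j < k + l.length → ∃ s, chkDed F R S j s = true := by
  intro l
  induction l with
  | nil => intro k _ j h1 h2; simp at h2; omega
  | cons s l ih =>
    intro k h j h1 h2
    simp only [chkList, Bool.and_eq_true] at h
    rcases Nat.eq_or_lt_of_le h1 with rfl | h'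
    · exact ⟨s, h.1⟩
    · simp only [List.length_cons] at h2
      exact ih (k + 1) h.2 j h' (by omega)

section Action

variable {Q : Type*} [MulAction G Q] (g : ℕ → G)

/-- Apply a word, first letter first. -/
def act (w : List ℕ) (q : Q) : Q := w.foldl (fun q x => g x • q) q

@[simp] theorem act_nil (q : Q) : act g [] q = q := rfl

@[simp] theorem act_cons (x : ℕ) (w : List ℕ) (q : Q) : act g (x :: w) q = act g w (g x • q) := rfl

theorem act_append (v w : List ℕ) (q : Q) : act g (v ++ w) q = act g w (act g v q) := by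
  simp [act, List.foldl_append]

theorem act_eq_prod (w : List ℕ) : ∀ q : Q, act g w q = (w.reverse.map g).prod • q := by
  induction w with
  | nil => intro q; simp
  | cons x w ih => intro q; rw [act_cons, ih]; simp [mul_smul]

variable {g}

theorem act_reverse (hg : ∀ x, g x * g x = 1) (w : List ℕ) :
    ∀ q : Q, act g w.reverse (act g w q) = q := by
  induction w with
  | nil => intro q; simp
  | cons x w ih =>
    intro q
    rw [act_cons, List.reverse_cons, act_append, ih, act_cons, act_nil, ← mul_smul, hg, one_smul]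

/-- What a fact asserts. -/
def FactOK (g : ℕ → G) (φ : ℕ → Q) (c : ℕ) : Prop := g (let' c) • φ (src c) = φ (tgt c)

theorem fact_oriented (hg : ∀ x, g x * g x = 1) {F : ℕ → ℕ} {φ : ℕ → Q} {e : ℕ}
    (h : FactOK g φ (F (e / 2))) :
    g (let' (F (e / 2))) • φ (oStart F e) = φ (oEnd F e) := by
  unfold oStart oEnd
  rcases Bool.eq_false_or_eq_true (e % 2 == 0) with he | he <;> rw [he] <;>
    simp only [cond_true, cond_false]
  · exact h
  · rw [← h, ← mul_smul, hg, one_smul]

theorem walk_sound (hg : ∀ x, g x * g x = 1) (h15 : g 15 = 1) {F : ℕ → ℕ} {φ : ℕ → Q} {k : ℕ}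
    (hold : ∀ j, j < k → FactOK g φ (F j)) :
    ∀ (n s cur : ℕ) (w : List ℕ) (t : ℕ), walk F k n s cur = some (w, t) →
      act g w (φ cur) = φ t := by
  intro n
  induction n with
  | zero =>
    intro s cur w t h
    simp only [walk, Option.some.injEq, Prod.mk.injEq] at h
    obtain ⟨rfl, rfl⟩ := h
    rfl
  | succ n ih =>
    intro s cur w t h
    simp only [walk] at h
    rcases Bool.eq_false_or_eq_true
      (Nat.blt (s % 1048576 / 2) k && oStart F (s % 1048576) == cur) with hc | hc
    swap
    · rw [hc] at h; simp at h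
    rw [hc] at h
    simp only [Bool.and_eq_true, beq_iff_eq] at hc
    simp only [cond_true] at h
    split at h
    · next w' t' heq =>
      simp only [Option.some.injEq, Prod.mk.injEq] at h
      obtain ⟨rfl, rfl⟩ := h
      have h1 := ih _ _ _ _ heq
      have h2 := fact_oriented hg (F := F) (φ := φ) (e := s % 1048576)
        (hold _ (Nat.blt_eq.mp hc.1))
      rw [hc.2] at h2
      rcases Bool.eq_false_or_eq_true (let' (F (s % 1048576 / 2)) == 15) with hx | hx <;> rw [hx]
      · rw [beq_iff_eq] at hx
        rw [hx, h15, one_smul] at h2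
        simpa [h2] using h1
      · simp only [cond_false, act_cons, h2]
        exact h1
    · simp at h

theorem chkDed_sound (hg : ∀ x, g x * g x = 1) (h15 : g 15 = 1) {F : ℕ → ℕ} {φ : ℕ → Q}
    {R S : List (List ℕ)} (hR : ∀ r ∈ R, ∀ q : Q, act g r q = q)
    (hS : ∀ r ∈ S, act g r (φ 0) = φ 0) {k s : ℕ}
    (hold : ∀ j, j < k → FactOK g φ (F j)) (h : chkDed F R S k s = true) :
    FactOK g φ (F k) := by
  unfold chkDed at h
  split at h
  swap
  · simp at h
  next wa a hA =>
  simp only [Bool.and_eq_true, beq_iff_eq] at h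
  obtain ⟨ha, h⟩ := h
  split at h
  swap
  · simp at h
  next wb b hB =>
  simp only [Bool.and_eq_true, beq_iff_eq] at h
  obtain ⟨hb, hw⟩ := h
  have hA' := walk_sound hg h15 hold _ _ _ _ _ hA
  have hB' := walk_sound hg h15 hold _ _ _ _ _ hB
  subst ha hb
  set i := fld s 1
  have hfix : act g (wa ++ mid (let' (F k)) ++ wb.reverse) (φ i) = φ i := by
    unfold ruleOK at hw
    rcases Bool.eq_false_or_eq_true (Nat.blt (fld s 0) R.length) with hc | hc <;> rw [hc] at hw <;>
      simp only [cond_true, cond_false, Bool.and_eq_true, beq_iff_eq] at hw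
    · rw [hw]
      have hlt := Nat.blt_eq.mp hc
      rw [List.getD_eq_getElem _ _ hlt]
      exact hR _ (List.getElem_mem hlt) _
    · obtain ⟨h0, hw⟩ := hw
      rw [hw, h0]
      by_cases hlt : fld s 0 - R.length < S.length
      · rw [List.getD_eq_getElem _ _ hlt]
        exact hS _ (List.getElem_mem hlt)
      · rw [List.getD_eq_default _ _ (by omega)]
        rfl
  rw [act_append, act_append, hA'] at hfix
  have h2 := congrArg (act g wb) hfix
  have h3 := act_reverse hg wb.reverse (act g (mid (let' (F k))) (φ (src (F k))))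
  rw [List.reverse_reverse] at h3
  rw [h3, hB'] at h2
  unfold FactOK
  rw [← h2]
  unfold mid
  rcases Bool.eq_false_or_eq_true (let' (F k) == 15) with hx | hx <;> rw [hx]
  · rw [beq_iff_eq] at hx
    rw [hx, h15, one_smul]; rfl
  · rfl

/-- The element named by a node, following the defining facts. -/
noncomputable def node (g : ℕ → G) (F : ℕ → ℕ) (q₀ : Q) (v : ℕ) : Q :=
  if h : 0 < v ∧ src (F (v - 1)) < v then g (let' (F (v - 1))) • node g F q₀ (src (F (v - 1)))
  else q₀
termination_by v
decreasing_by exact h.2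

theorem node_zero (g : ℕ → G) (F : ℕ → ℕ) (q₀ : Q) : node g F q₀ 0 = q₀ := by
  rw [node]; simp

/-- All facts of a certificate hold. -/
theorem all_facts (hg : ∀ x, g x * g x = 1) (h15 : g 15 = 1) {F : ℕ → ℕ} (q₀ : Q)
    {R S : List (List ℕ)} (hR : ∀ r ∈ R, ∀ q : Q, act g r q = q)
    (hS : ∀ r ∈ S, act g r q₀ = q₀) {nd N : ℕ}
    (hdef : allIn (chkDef F) 0 nd = true)
    (hded : ∀ k, nd ≤ k → k < N → ∃ s, chkDed F R S k s = true) :
    ∀ k, k < N → FactOK g (node g F q₀) (F k) := by
  intro k
  induction k using Nat.strong_induction_on with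
  | _ k ih =>
    intro hk
    by_cases hd : k < nd
    · have h := (allIn_iff _ _ _).1 hdef k (Nat.zero_le _) (by omega)
      simp only [chkDef, Bool.and_eq_true, beq_iff_eq, Nat.blt_eq] at h
      unfold FactOK
      rw [h.1]
      conv_rhs => rw [node]
      rw [dif_pos (by simpa using h.2)]
      simp
    · obtain ⟨s, hs⟩ := hded k (by omega) hk
      exact chkDed_sound hg h15 hR (fun r hr => by rw [node_zero]; exact hS r hr)
        (fun j hj => ih j hj (by omega)) hs

end Action

section Perm

variable {n : ℕ}

/-- Check that a table row is an involution of `[0, n)`. -/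
def invOK (n : ℕ) (t : ℕ → ℕ) : Bool := allIn (fun c => Nat.blt (t c) n && t (t c) == c) 0 n

/-- The permutation given by an involutive table row. -/
def permOf (n : ℕ) (t : ℕ → ℕ) : Equiv.Perm (Fin n) :=
  if h : invOK n t = true then
    Function.Involutive.toPerm
      (fun c => ⟨t c, Nat.blt_eq.mp
        ((Bool.and_eq_true _ _).mp ((allIn_iff _ _ _).1 h c (Nat.zero_le _) (by omega))).1⟩)
      (fun c => Fin.ext (beq_iff_eq.mp
        ((Bool.and_eq_true _ _).mp ((allIn_iff _ _ _).1 h c (Nat.zero_le _) (by omega))).2))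
  else 1

theorem permOf_val {t : ℕ → ℕ} (h : invOK n t = true) (c : Fin n) :
    ((permOf n t c : Fin n) : ℕ) = t c := by
  rw [permOf, dif_pos h]; rfl

theorem permOf_mul_self (t : ℕ → ℕ) : permOf n t * permOf n t = 1 := by
  unfold permOf
  split
  · apply Equiv.ext; intro c; exact Function.Involutive.toPerm_involutive _ c
  · simp

theorem runR_val {T : ℕ → ℕ → ℕ} (hT : ∀ x, invOK n (T x) = true) (w : List ℕ) :
    ∀ c : Fin n, (((w.map fun x => permOf n (T x)).prod c : Fin n) : ℕ) = runR T w c := by
  induction w with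
  | nil => intro c; simp [runR]
  | cons x w ih => intro c; simp [runR_cons, permOf_val (hT x), ih]

/-- Equality of two words, checked on every point. -/
theorem prod_eq_of_runR {T : ℕ → ℕ → ℕ} (hT : ∀ x, invOK n (T x) = true) {v w : List ℕ}
    (h : allIn (fun c => runR T v c == runR T w c) 0 n = true) :
    (v.map fun x => permOf n (T x)).prod = (w.map fun x => permOf n (T x)).prod := by
  ext c
  rw [runR_val hT, runR_val hT]
  exact beq_iff_eq.mp ((allIn_iff _ _ _).1 h c (Nat.zero_le _) (by omega))

/-- A table with the rows from `ng` on being the identity consists of involutions. -/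
theorem invOK_all {T : ℕ → ℕ → ℕ} {ng : ℕ} (h : allIn (fun x => invOK n (T x)) 0 ng = true)
    (h' : ∀ x, ng ≤ x → ∀ c, T x c = c) (x : ℕ) : invOK n (T x) = true := by
  by_cases hx : x < ng
  · exact (allIn_iff _ _ _).1 h x (Nat.zero_le _) (by omega)
  · refine (allIn_iff _ _ _).2 fun c _ hc => ?_
    simp [h' x (by omega), Nat.blt_eq]
    omega

end Perm

end H29.CosetCert
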