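import Mathlib

/-!
# Checkable certificates for coset enumerations on involutory generators

The certificate is a list of facts `x • φ u = φ v` (letter `15` standing for the identity), each
justified by earlier facts and a relator, together with the final table.
-/

set_option autoImplicit false

namespace H29.CosetCert

/-- A binary trie of natural numbers. -/
inductive Tr
  | leaf (n : ℕ)
  | node (l r : Tr)

/-- Look up in a trie, by the bits of the index. -/
def Tr.get : Tr → ℕ → ℕ
  | .leaf n, _ => n
  | .node l r, i => bif i % 2 == 0 then l.get (i / 2) else r.get (i / 2)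

/-- The `k`th 40-bit fact code in a trie of 16-fact blocks. -/
def factAt (t : Tr) (k : ℕ) : ℕ := (t.get (k / 16) >>> (40 * (k % 16))) % 1099511627776

/-- Entry `c` of a table packed in 12-bit fields, 32 to a block. -/
def pick (t : Tr) (c : ℕ) : ℕ := (t.get (c / 32) >>> (12 * (c % 32))) % 4096

/-- Entry `c` of a table packed in 20-bit fields, 32 to a block. -/
def pick20 (t : Tr) (c : ℕ) : ℕ := (t.get (c / 32) >>> (20 * (c % 32))) % 1048576

/-- The first node of a fact. -/
def src (c : ℕ) : ℕ := c >>> 20

/-- The letter of a fact. -/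
def let' (c : ℕ) : ℕ := (c >>> 16) % 16

/-- The second node of a fact. -/
def tgt (c : ℕ) : ℕ := c % 65536

/-- The start of an oriented fact `2 * id + dir`. -/
def oStart (F : ℕ → ℕ) (e : ℕ) : ℕ := bif e % 2 == 0 then src (F (e / 2)) else tgt (F (e / 2))

/-- The end of an oriented fact. -/
def oEnd (F : ℕ → ℕ) (e : ℕ) : ℕ := bif e % 2 == 0 then tgt (F (e / 2)) else src (F (e / 2))

/-- Follow a path of oriented facts older than `k`. -/
def walk (F : ℕ → ℕ) (k : ℕ) : ℕ → ℕ → ℕ → Option (List ℕ × ℕ)
  | 0, _, cur => some ([], cur)
  | n + 1, s, cur =>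
    bif Nat.blt (s % 1048576 / 2) k && oStart F (s % 1048576) == cur then
      match walk F k n (s / 1048576) (oEnd F (s % 1048576)) with
      | some (w, t) =>
        some (bif let' (F (s % 1048576 / 2)) == 15 then w else let' (F (s % 1048576 / 2)) :: w, t)
      | none => none
    else none

/-- A possibly empty middle letter. -/
def mid (x : ℕ) : List ℕ := bif x == 15 then [] else [x]

/-- The word of rule number `r` at start node `i`. -/
def ruleOK (R S : List (List ℕ)) (i r : ℕ) (w : List ℕ) : Bool :=
  bif Nat.blt r R.length then w == R.getD r [] else i == 0 && w == S.getD (r - R.length) []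

/-- The number in 20-bit field `i` of a step. -/
def fld (s i : ℕ) : ℕ := (s >>> (20 * i)) % 1048576

/-- Check one derived fact. -/
def chkDed (F : ℕ → ℕ) (R S : List (List ℕ)) (k s : ℕ) : Bool :=
  match walk F k (fld s 2) (s >>> 80) (fld s 1) with
  | some (wa, a) =>
    a == src (F k) &&
      match walk F k (fld s 3) (s >>> (80 + 20 * fld s 2)) (fld s 1) with
      | some (wb, b) =>
        b == tgt (F k) && ruleOK R S (fld s 1) (fld s 0) (wa ++ mid (let' (F k)) ++ wb.reverse)
      | none => false
  | none => false

/-- Check the definition of node `k + 1` at fact `k`. -/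
def chkDef (F : ℕ → ℕ) (k : ℕ) : Bool :=
  tgt (F k) == k + 1 && Nat.blt (src (F k)) (k + 1)

/-- Check a block of derived facts, numbered from `k`. -/
def chkList (F : ℕ → ℕ) (R S : List (List ℕ)) : List ℕ → ℕ → Bool
  | [], _ => true
  | s :: l, k => chkDed F R S k s && chkList F R S l (k + 1)

/-- Check that every number in `[lo, hi)` satisfies `p`. -/
def allIn (p : ℕ → Bool) : ℕ → ℕ → Bool
  | _, 0 => true
  | lo, n + 1 => p lo && allIn p (lo + 1) n

/-- Apply a word to a table point, last letter first; the `match` makes each value a literal. -/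
def runR (t : ℕ → ℕ → ℕ) : List ℕ → ℕ → ℕ
  | [], c => c
  | x :: w, c => match runR t w c with
    | 0 => t x 0
    | n + 1 => t x (n + 1)

theorem runR_cons (t : ℕ → ℕ → ℕ) (x : ℕ) (w : List ℕ) (c : ℕ) :
    runR t (x :: w) c = t x (runR t w c) := by
  rw [runR]
  split <;> rename_i h <;> rw [h]

/-- Number of points of `[lo, lo + n)` satisfying `p`. -/
def countIn (p : ℕ → Bool) : ℕ → ℕ → ℕ
  | _, 0 => 0
  | lo, n + 1 => bif p lo then countIn p (lo + 1) n + 1 else countIn p (lo + 1) n

/-- Check that a list of steps `(point, old point, word number)` grows the bit set `seen` to `m`. -/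
def growOK (t : ℕ → ℕ → ℕ) (W : List (List ℕ)) (m : ℕ) : List ℕ → ℕ → Bool
  | [], seen => seen == m
  | e :: l, seen =>
    seen.testBit (fld e 1) && runR t (W.getD (fld e 2) []) (fld e 1) == fld e 0 &&
      growOK t W m l (seen ||| 2 ^ fld e 0)

end H29.CosetCert
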