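import Cfsg.Agent.H29.CosetCert.Simple

/-!
# Assembling checks made in pieces
-/

set_option autoImplicit false

namespace H29.CosetCert

theorem entryOK_gen {L : Slp} {T : ℕ → ℕ → ℕ} {n k : ℕ} (hk : Nat.blt k L.ng = true)
    (h : allIn (fun c => L.tbl k c == T k c) 0 n = true) : L.entryOK T n k = true := by
  rw [Slp.entryOK, hk, cond_true]
  exact h

theorem entryOK_word {L : Slp} {T : ℕ → ℕ → ℕ} {n k : ℕ} (hk : Nat.blt k L.ng = false)
    (hw : (L.word k).all (fun j => Nat.blt j k) = true)
    (h : allIn (fun c => runR L.tbl (L.word k) c == L.tbl k c) 0 n = true) :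
    L.entryOK T n k = true := by
  rw [Slp.entryOK, hk, cond_false, hw, h, Bool.and_self]

/-- The part of `normOK` that does not look at tables. -/
def normShape (L : Slp) : List NItem → List ℕ → Bool
  | [], known => allIn (fun x => known.elem x) 0 L.ng
  | i :: rest, known => Nat.blt i.k L.K && Nat.blt i.h L.K && Nat.blt i.h' L.K &&
      i.w.all (fun j => known.elem j && Nat.blt j L.K) && normShape L rest (i.k :: known)

/-- The table check of one item. -/
def itemOK (L : Slp) (i : NItem) (c : ℕ) : Bool :=
  runR L.tbl [i.h, i.h'] c == c && runR L.tbl (i.h :: (i.w ++ [i.h'])) c == L.tbl i.k c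

theorem normOK_of (L : Slp) (n : ℕ) : ∀ (items : List NItem) (known : List ℕ),
    normShape L items known = true → (∀ i ∈ items, allIn (itemOK L i) 0 n = true) →
    normOK L n items known = true := by
  intro items
  induction items with
  | nil => intro known h _; exact h
  | cons i rest ih =>
    intro known h ht
    simp only [normShape, Bool.and_eq_true] at h
    simp only [normOK, Bool.and_eq_true]
    exact ⟨⟨h.1, ht i List.mem_cons_self⟩,
      ih _ h.2 fun j hj => ht j (List.mem_cons_of_mem _ hj)⟩

theorem allIn_join (p : ℕ → Bool) {a b : ℕ} {lo : ℕ} (h1 : allIn p lo a = true)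
    (h2 : allIn p (lo + a) b = true) : allIn p lo (a + b) = true := by
  rw [allIn_iff] at h1 h2 ⊢
  intro i hi hi'
  by_cases hc : i < lo + a
  · exact h1 i hi hc
  · exact h2 i (by omega) (by omega)

end H29.CosetCert
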