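import Cfsg.Agent.H29.CosetCert.Check

/-!
# Tables with 16-bit entries
-/

set_option autoImplicit false

namespace H29.CosetCert

/-- Entry `c` of a table packed in 16-bit fields, 32 to a block. -/
def pick16 (t : Tr) (c : ℕ) : ℕ := (t.get (c / 32) >>> (16 * (c % 32))) % 65536

end H29.CosetCert
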