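import Cfsg.Agent.H29.CosetCert.Sound
import Cfsg.Agent.H29.CosetCert.Pick16

/-!
# Relator checks written directly with recursors, for faster evaluation
-/

set_option autoImplicit false

namespace H29.CosetCert

/-- `Tr.get` by the recursor. -/
noncomputable def getF (t : Tr) : ℕ → ℕ :=
  Tr.rec (motive := fun _ => ℕ → ℕ) (fun n _ => n)
    (fun _ _ gl gr i =>
      cond (Nat.beq (Nat.land i 1) 0) (gl (Nat.shiftRight i 1)) (gr (Nat.shiftRight i 1))) t

/-- `pick16` by the recursor. -/
noncomputable def pickF (t : Tr) (c : ℕ) : ℕ :=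
  Nat.land (Nat.shiftRight (getF t (Nat.shiftRight c 5)) (Nat.mul 16 (Nat.land c 31))) 65535

/-- `runR` by the recursor. -/
noncomputable def runF (row : ℕ → Tr) (w : List ℕ) (c : ℕ) : ℕ :=
  List.rec (motive := fun _ => ℕ) c
    (fun x _ v => Nat.rec (pickF (row x) 0) (fun n _ => pickF (row x) (Nat.succ n)) v) w

/-- All words of a list fix `c`. -/
noncomputable def fixF (row : ℕ → Tr) (W : List (List ℕ)) (c : ℕ) : Bool :=
  List.rec (motive := fun _ => Bool) true
    (fun r _ acc => cond (Nat.beq (runF row r c) c) acc false) W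

/-- All numbers in `[lo, lo + n)` satisfy `p`. -/
noncomputable def allF (p : ℕ → Bool) (lo n : ℕ) : Bool :=
  Nat.rec true (fun k acc => cond (p (Nat.add lo k)) acc false) n

theorem allF_spec (p : ℕ → Bool) (lo n : ℕ) (h : allF p lo n = true) :
    ∀ i, lo ≤ i → i < lo + n → p i = true := by
  induction n with
  | zero => intro i _ _; omega
  | succ n ih =>
    have h' : cond (p (lo + n)) (allF p lo n) false = true := h
    rcases Bool.eq_false_or_eq_true (p (lo + n)) with hp | hp <;> rw [hp] at h'
    · intro i hi hi'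
      rcases Nat.lt_or_ge i (lo + n) with hlt | hge
      · exact ih h' i hi hlt
      · rw [show i = lo + n by omega]; exact hp
    · simp at h'

theorem getF_eq (t : Tr) : ∀ i, getF t i = t.get i := by
  induction t with
  | leaf n => intro i; rfl
  | node l r hl hr =>
    intro i
    show cond (Nat.beq (i &&& 1) 0) (getF l (i >>> 1)) (getF r (i >>> 1)) = _
    rw [Tr.get, Nat.and_one_is_mod, Nat.shiftRight_eq_div_pow, pow_one, hl, hr]
    rcases Nat.mod_two_eq_zero_or_one i with h | h <;> rw [h] <;> rfl

theorem pickF_eq (t : Tr) (c : ℕ) : pickF t c = pick16 t c := by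
  show (getF t (c >>> 5) >>> (16 * (c &&& 31))) &&& 65535 = _
  rw [getF_eq, Nat.shiftRight_eq_div_pow c 5, show (31 : ℕ) = 2 ^ 5 - 1 by norm_num,
    Nat.and_two_pow_sub_one_eq_mod, show (65535 : ℕ) = 2 ^ 16 - 1 by norm_num,
    Nat.and_two_pow_sub_one_eq_mod]
  rfl

theorem runF_eq {row : ℕ → Tr} {T : ℕ → ℕ → ℕ} {ng : ℕ}
    (hrow : ∀ x, x < ng → ∀ c, pick16 (row x) c = T x c) :
    ∀ w : List ℕ, (∀ x ∈ w, x < ng) → ∀ c, runF row w c = runR T w c := by
  intro w
  induction w with
  | nil => intro _ c; rfl
  | cons x w ih =>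
    intro hw c
    rw [runR_cons, ← hrow x (hw x List.mem_cons_self), ← ih (fun y hy => hw y (List.mem_cons_of_mem _ hy)),
      ← pickF_eq]
    show Nat.rec (motive := fun _ => ℕ) (pickF (row x) 0) (fun n _ => pickF (row x) (Nat.succ n)) (runF row w c) = _
    generalize runF row w c = v
    cases v <;> rfl

theorem fixF_spec (row : ℕ → Tr) : ∀ (W : List (List ℕ)) (c : ℕ), fixF row W c = true →
    ∀ r ∈ W, runF row r c = c := by
  intro W
  induction W with
  | nil => intro c _ r hr; simp at hr
  | cons a W ih =>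
    intro c h r hr
    have h' : cond (Nat.beq (runF row a c) c) (fixF row W c) false = true := h
    rcases Bool.eq_false_or_eq_true (Nat.beq (runF row a c) c) with hp | hp <;> rw [hp] at h'
    · rcases List.mem_cons.1 hr with rfl | hr
      · exact Nat.eq_of_beq_eq_true hp
      · exact ih c h' r hr
    · simp at h'

end H29.CosetCert
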