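import Cfsg.Agent.H29.CosetCert.Simple

/-!
# Simplicity with any number of suborbits
-/

set_option autoImplicit false

namespace H29.CosetCert

namespace Cert

variable {G : Type*} [Group G] {H : Subgroup G} (C : Cert G H) (L : Slp)

/-- Primitivity from suborbit sizes: a nontrivial normal subgroup is transitive. -/
theorem sup_eq_top_of_orbits (hinj : Function.Injective C.ρ) {k : ℕ} (m : Fin k → ℕ) (s : Fin k → ℕ)
    (q : Fin k → G ⧸ H) (hs : ∀ i, (MulAction.orbit H (q i)).ncard = s i)
    (hq : ∀ i p, p ∈ MulAction.orbit H (q i) ↔ (m i).testBit (C.toPt p : Fin C.n) = true)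
    (hcov : ∀ c, c < C.n → c ≠ 0 → ∃ i, (m i).testBit c = true)
    (hbase : ∀ i, (m i).testBit 0 = false)
    (hdis : ∀ i j, i ≠ j → (m i) &&& (m j) = 0)
    (hblk : ∀ S : Finset (Fin k), S.Nonempty → (1 + ∑ i ∈ S, s i) ∣ C.n → S = Finset.univ)
    {N : Subgroup G} (hN : N.Normal) (hbot : N ≠ ⊥) : H ⊔ N = ⊤ := by
  classical
  set J := H ⊔ N
  set B : Set (G ⧸ H) := (fun a : G => (a : G ⧸ H)) '' (J : Set G) with hB
  have hinvB : ∀ (l : H) p, p ∈ B → l • p ∈ B := by
    rintro l _ ⟨a, ha, rfl⟩
    exact ⟨l * a, mul_mem (Subgroup.mem_sup_left l.2) ha, rfl⟩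
  have hBcard : B.ncard = H.relIndex J := by
    rw [Subgroup.relIndex, Subgroup.index_eq_card, ← Nat.card_coe_set_eq]
    refine Nat.card_congr (Equiv.symm (Equiv.ofBijective
      (Quotient.lift (fun a : J => (⟨((a : G) : G ⧸ H), a, a.2, rfl⟩ : B)) ?_) ⟨?_, ?_⟩))
    · intro a a' haa'
      apply Subtype.ext
      exact QuotientGroup.eq.2 (Subgroup.mem_subgroupOf.1 (QuotientGroup.leftRel_apply.1 haa'))
    · intro a a'
      induction a using Quotient.inductionOn with
      | _ a =>
        induction a' using Quotient.inductionOn with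
        | _ a' =>
          intro e
          have e' : ((a : G) : G ⧸ H) = ((a' : G) : G ⧸ H) := congrArg Subtype.val e
          exact Quotient.sound (QuotientGroup.leftRel_apply.2
            (Subgroup.mem_subgroupOf.2 (QuotientGroup.eq.1 e')))
    · rintro ⟨_, a, ha, rfl⟩
      exact ⟨Quotient.mk'' ⟨a, ha⟩, rfl⟩
  have hdvd : B.ncard ∣ C.n := by
    rw [hBcard, ← C.index_eq]
    exact Subgroup.relIndex_dvd_index_of_le le_sup_left
  have hb1 : ((1 : G) : G ⧸ H) ∈ B := ⟨1, one_mem _, rfl⟩
  have hb0 : C.toPt ((1 : G) : G ⧸ H) = C.base := by rw [toPt_mk, map_one]; rfl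
  have hnot : ∀ i, ((1 : G) : G ⧸ H) ∉ MulAction.orbit H (q i) := fun i hh => by
    have := (hq i _).1 hh
    rw [hb0] at this
    exact Bool.false_ne_true ((hbase i).symm.trans this)
  have hdisj : ∀ i j, i ≠ j → Disjoint (MulAction.orbit H (q i)) (MulAction.orbit H (q j)) :=
    fun i j hij => Set.disjoint_left.2 fun p hi hj => by
      have h := congrArg (fun v => Nat.testBit v (C.toPt p : Fin C.n)) (hdis i j hij)
      simp [(hq i p).1 hi, (hq j p).1 hj] at h
  have hsplit : ∀ p : G ⧸ H, p = ((1 : G) : G ⧸ H) ∨ ∃ i, p ∈ MulAction.orbit H (q i) := by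
    intro p
    by_cases h : ((C.toPt p : Fin C.n) : ℕ) = 0
    · exact Or.inl (C.ptEquiv.injective (show C.toPt p = C.toPt _ from
        (Fin.ext h : C.toPt p = C.base).trans hb0.symm))
    · obtain ⟨i, hi⟩ := hcov _ (Fin.isLt _) h
      exact Or.inr ⟨i, (hq i p).2 hi⟩
  set S := Finset.univ.filter fun i => ∃ p ∈ B, p ∈ MulAction.orbit H (q i)
  have hBeq : B = insert ((1 : G) : G ⧸ H) (⋃ i ∈ S, MulAction.orbit H (q i)) := by
    ext p
    simp only [Set.mem_insert_iff, Set.mem_iUnion, exists_prop, S, Finset.mem_filter,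
      Finset.mem_univ, true_and]
    constructor
    · intro hp
      rcases hsplit p with h | ⟨i, hi⟩
      · exact Or.inl h
      · exact Or.inr ⟨i, ⟨p, hp, hi⟩, hi⟩
    · rintro (rfl | ⟨i, ⟨r, hr, hri⟩, hp⟩)
      · exact hb1
      · rw [← MulAction.orbit_eq_iff.2 hri] at hp
        obtain ⟨l, rfl⟩ := hp
        exact hinvB l r hr
  have hcard : B.ncard = 1 + ∑ i ∈ S, s i := by
    haveI : Finite (G ⧸ H) := Finite.of_equiv _ C.ptEquiv.symm
    rw [hBeq, Set.ncard_insert_of_notMem (by simpa using fun i _ => hnot i), Nat.add_comm 1]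
    congr 1
    have hun : ∀ T : Finset (Fin k),
        (⋃ i ∈ T, MulAction.orbit H (q i)).ncard = ∑ i ∈ T, s i := by
      intro T
      induction T using Finset.induction_on with
      | empty => simp
      | insert a T ha ih =>
        rw [Finset.set_biUnion_insert, Finset.sum_insert ha, Set.ncard_union_eq _ (Set.toFinite _)
          (Set.toFinite _), ih, hs]
        simp only [Set.disjoint_iUnion_right]
        exact fun i hi => hdisj a i (fun e => ha (e ▸ hi))
    exact hun S
  have hSne : S.Nonempty := by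
    by_contra hno
    rw [Finset.not_nonempty_iff_eq_empty] at hno
    apply hbot
    rw [eq_bot_iff]
    intro a ha
    rw [Subgroup.mem_bot]
    apply hinj
    refine Equiv.ext fun c => ?_
    obtain ⟨p, rfl⟩ := C.toPt_surjective c
    rw [← toPt_smul, map_one, Equiv.Perm.one_apply]
    congr 1
    induction p using QuotientGroup.induction_on with
    | _ r =>
      have hr : ((r⁻¹ * a * r : G) : G ⧸ H) ∈ B := ⟨_, Subgroup.mem_sup_right (by
        simpa using hN.conj_mem a ha r⁻¹), rfl⟩
      rw [hBeq, hno] at hr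
      simp only [Finset.notMem_empty, Set.iUnion_of_empty, Set.iUnion_empty, Set.mem_insert_iff,
        Set.mem_empty_iff_false, or_false] at hr
      rw [QuotientGroup.eq, mul_one, Subgroup.inv_mem_iff] at hr
      rw [MulAction.Quotient.smul_coe, smul_eq_mul, QuotientGroup.eq]
      have : (a * r)⁻¹ * r = (r⁻¹ * a * r)⁻¹ := by group
      rw [this]
      exact inv_mem hr
  have hSall := hblk S hSne (hcard ▸ hdvd)
  have hBuniv : B = Set.univ := Set.eq_univ_of_forall fun p => by
    rw [hBeq, hSall]
    rcases hsplit p with h | ⟨i, hi⟩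
    · exact Or.inl h
    · exact Or.inr (Set.mem_biUnion (Finset.mem_univ i) hi)
  rw [eq_top_iff]
  intro a _
  obtain ⟨b, hb, hba⟩ := (hBuniv ▸ Set.mem_univ (a : G ⧸ H) : (a : G ⧸ H) ∈ B)
  have := mul_mem hb (Subgroup.mem_sup_left (T := N) (QuotientGroup.eq.1 hba))
  simpa using this

/-- Simplicity from transitivity of normal subgroups. -/
theorem isSimpleGroup_of_transitive [Finite G] [Nontrivial G] (hinj : Function.Injective C.ρ)
    (hng : L.ng = C.ng) (hngK : L.ng ≤ L.K) (h : allIn (L.entryOK C.T C.n) 0 L.K = true)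
    (htr : ∀ N : Subgroup G, N.Normal → N ≠ ⊥ → H ⊔ N = ⊤)
    {x p : ℕ} (hx : x < L.K) (hp : (Nat.card H).Coprime p)
    (hxp : allIn (fun c => runR L.tbl (List.replicate p x) c == c) 0 C.n = true)
    (items : List NItem) (hit : normOK L C.n items [x] = true) : IsSimpleGroup G := by
  classical
  let el : ℕ → G := fun k => if hk : k < L.K then (C.elems L hngK h k hk).choose else 1
  have hel : ∀ k, k < L.K → ∀ c : Fin C.n, ((C.ρ (el k) c : Fin C.n) : ℕ) = L.tbl k c :=
    fun k hk c => by simp only [el, dif_pos hk]; exact (C.elems L hngK h k hk).choose_spec c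
  have heq : ∀ {a a' : G}, (∀ c : Fin C.n, ((C.ρ a c : Fin C.n) : ℕ) = (C.ρ a' c : Fin C.n)) →
      a = a' := fun hh => hinj (Equiv.ext fun c => Fin.ext (hh c))
  refine ⟨fun N hN => ?_⟩
  by_cases hbot : N = ⊥
  · exact Or.inl hbot
  refine Or.inr ?_
  have hJtop := htr N hN hbot
  have hidx : N.index ∣ Nat.card H := by
    have e : N.index = N.relIndex H := by
      rw [← Subgroup.relIndex_top_right, ← hJtop, Subgroup.relIndex_sup_right]
    rw [e]
    exact Subgroup.relIndex_dvd_card N H
  have hxN : el x ∈ N := by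
    have hpow : el x ^ p = 1 := by
      refine heq fun c => ?_
      rw [← List.prod_replicate, ← List.map_replicate,
        word_val C hel _ (fun y hy => (List.eq_of_mem_replicate hy).symm ▸ hx), map_one,
        Equiv.Perm.one_apply]
      exact beq_iff_eq.1 ((allIn_iff _ _ _).1 hxp c (Nat.zero_le _) (by omega))
    have h1 : (QuotientGroup.mk' N (el x)) ^ p = 1 := by rw [← map_pow, hpow, map_one]
    have h2 : (QuotientGroup.mk' N (el x)) ^ (Nat.card H) = 1 := by
      obtain ⟨d, hd⟩ := hidx
      rw [hd, Subgroup.index_eq_card, pow_mul, pow_card_eq_one', one_pow]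
    have h3 := pow_gcd_eq_one.2 ⟨h2, h1⟩
    rw [hp, pow_one] at h3
    exact (QuotientGroup.eq_one_iff _).1 h3
  have hall : ∀ (items : List NItem) (known : List ℕ), normOK L C.n items known = true →
      (∀ k ∈ known, el k ∈ N) → ∀ y, y < L.ng → el y ∈ N := by
    intro items
    induction items with
    | nil =>
      intro known hk hmem y hy
      exact hmem y (List.elem_iff.1 ((allIn_iff _ _ _).1 hk y (Nat.zero_le _) (by omega)))
    | cons i rest ih =>
      intro known hk hmem
      simp only [normOK, Bool.and_eq_true, List.all_eq_true, Nat.blt_eq] at hk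
      obtain ⟨⟨⟨⟨⟨hik, hih⟩, hih'⟩, hw⟩, hchk⟩, hrest⟩ := hk
      refine ih _ hrest fun k hkm => ?_
      rcases List.mem_cons.1 hkm with rfl | hkm
      swap
      · exact hmem k hkm
      have hinv : el i.h' = (el i.h)⁻¹ := by
        rw [← mul_eq_one_iff_eq_inv']
        refine heq fun c => ?_
        have hc := (allIn_iff _ _ _).1 hchk c (Nat.zero_le _) (by omega)
        simp only [Bool.and_eq_true, beq_iff_eq] at hc
        have hv := word_val C hel [i.h, i.h'] (by simp [hih, hih']) c
        simp only [List.map_cons, List.map_nil, List.prod_cons, List.prod_nil, mul_one] at hv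
        rw [hv, hc.1, map_one, Equiv.Perm.one_apply]
      have hek : el i.k = el i.h * (i.w.map el).prod * (el i.h)⁻¹ := by
        refine heq fun c => ?_
        have hc := (allIn_iff _ _ _).1 hchk c (Nat.zero_le _) (by omega)
        simp only [Bool.and_eq_true, beq_iff_eq] at hc
        have hv := word_val C hel (i.h :: (i.w ++ [i.h'])) (by
          intro y hy
          simp only [List.mem_cons, List.mem_append, List.not_mem_nil, or_false] at hy
          rcases hy with rfl | hy | rfl
          exacts [hih, (hw y hy).2, hih']) c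
        rw [List.map_cons, List.map_append, List.prod_cons, List.prod_append, List.map_cons,
          List.map_nil, List.prod_cons, List.prod_nil, mul_one, hinv, ← mul_assoc] at hv
        rw [hel _ hik, hv, hc.2]
      rw [hek]
      refine hN.conj_mem _ (list_prod_mem fun e he => ?_) _
      obtain ⟨y, hy, rfl⟩ := List.mem_map.1 he
      exact hmem y (List.elem_iff.1 (hw y hy).1)
  rw [eq_top_iff, ← C.g_gen, Subgroup.closure_le]
  rintro _ ⟨y, rfl⟩
  by_cases hy : y < L.ng
  · have hgy : C.g y = el y := by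
      refine heq fun c => ?_
      rw [C.ρ_g, permOf_val (C.invAll y), hel y (by omega)]
      have h1 := (allIn_iff _ _ _).1 h y (Nat.zero_le _) (by omega)
      unfold Slp.entryOK at h1
      rw [show Nat.blt y L.ng = true by rwa [Nat.blt_eq], cond_true] at h1
      exact (beq_iff_eq.1 ((allIn_iff _ _ _).1 h1 c (Nat.zero_le _) (by omega))).symm
    rw [hgy]
    exact hall items [x] hit (by simpa using hxN) y hy
  · rw [C.g_high y (by omega)]
    exact one_mem N

end Cert

end H29.CosetCert
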