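import Cfsg.Agent.H29.CosetCert.Sound

/-!
# Index and suborbits from a certificate
-/

set_option autoImplicit false

namespace H29.CosetCert

open scoped Pointwise

/-- The data of a coset enumeration certificate, with the checks it must satisfy. -/
structure Cert (G : Type*) [Group G] (H : Subgroup G) where
  /-- the generators -/
  g : ℕ → G
  /-- the number of generators -/
  ng : ℕ
  /-- the number of cosets -/
  n : ℕ
  /-- relators as words -/
  R : List (List ℕ)
  /-- subgroup generators as words -/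
  S : List (List ℕ)
  /-- facts -/
  F : ℕ → ℕ
  /-- number of defining facts -/
  nd : ℕ
  /-- number of facts -/
  N : ℕ
  /-- the final table -/
  T : ℕ → ℕ → ℕ
  /-- the node of a coset -/
  nodeOf : ℕ → ℕ
  /-- the fact behind a table entry -/
  edge : ℕ → ℕ → ℕ
  /-- the point and letter from which a coset is reached -/
  par : ℕ → ℕ
  /-- the action on the table -/
  ρ : G →* Equiv.Perm (Fin n)
  g_high : ∀ x, ng ≤ x → g x = 1
  g_sq : ∀ x, g x * g x = 1
  g_gen : Subgroup.closure (Set.range g) = ⊤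
  ng_le : ng ≤ 15
  n_pos : 0 < n
  T_high : ∀ x, ng ≤ x → ∀ c, T x c = c
  T_inv : allIn (fun x => invOK n (T x)) 0 ng = true
  ρ_g : ∀ x, ρ (g x) = permOf n (T x)
  rels : ∀ r ∈ R, (r.reverse.map g).prod = 1
  sub : H = Subgroup.closure {e | e ∈ S.map fun r => (r.reverse.map g).prod}
  sub_fix : allIn (fun i => runR T (S.getD i []).reverse 0 == 0) 0 S.length = true
  defs : allIn (chkDef F) 0 nd = true
  deds : ∀ k, nd ≤ k → k < N → ∃ s, chkDed F R S k s = true
  node0 : nodeOf 0 = 0
  closed : allIn (fun c => allIn (fun x => Nat.blt (edge x c / 2) N &&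
    let' (F (edge x c / 2)) == x && oStart F (edge x c) == nodeOf c &&
    oEnd F (edge x c) == nodeOf (T x c)) 0 ng) 0 n = true
  connected : allIn (fun c => c == 0 || (Nat.blt (par c / 16) c &&
    T (par c % 16) (par c / 16) == c)) 0 n = true

namespace Cert

variable {G : Type*} [Group G] {H : Subgroup G} (C : Cert G H)

/-- The base point. -/
def base : Fin C.n := ⟨0, C.n_pos⟩

theorem invAll (x : ℕ) : invOK C.n (C.T x) = true := invOK_all C.T_inv C.T_high x

theorem prod_ρ (w : List ℕ) :
    C.ρ (w.map C.g).prod = (w.map fun x => permOf C.n (C.T x)).prod := by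
  rw [map_list_prod, List.map_map]
  exact congrArg List.prod (List.map_congr_left fun x _ => C.ρ_g x)

theorem prod_ρ_val (w : List ℕ) (c : Fin C.n) :
    ((C.ρ (w.map C.g).prod c : Fin C.n) : ℕ) = runR C.T w c := by
  rw [prod_ρ]; exact runR_val C.invAll w c

theorem fix_base {h : G} (hh : h ∈ H) : C.ρ h C.base = C.base := by
  rw [C.sub] at hh
  induction hh using Subgroup.closure_induction with
  | mem x hx =>
    simp only [Set.mem_setOf_eq, List.mem_map] at hx
    obtain ⟨r, hr, rfl⟩ := hx
    obtain ⟨i, hi, rfl⟩ := List.mem_iff_getElem.1 hr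
    apply Fin.ext
    rw [prod_ρ_val]
    have h := (allIn_iff _ _ _).1 C.sub_fix i (Nat.zero_le _) (by omega)
    rw [List.getD_eq_getElem _ _ hi] at h
    exact beq_iff_eq.mp h
  | one => simp
  | mul a b _ _ ha hb => simp [hb, ha]
  | inv a _ ha =>
    rw [map_inv]
    exact Equiv.Perm.inv_eq_iff_eq.2 ha.symm

/-- The map from cosets to table points. -/
def toPt : G ⧸ H → Fin C.n :=
  Quotient.lift (fun a => C.ρ a C.base) fun a b hab => by
    have h := C.fix_base (QuotientGroup.leftRel_apply.1 hab)
    have hb : C.ρ b = C.ρ a * C.ρ (a⁻¹ * b) := by rw [← map_mul, mul_inv_cancel_left]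
    show C.ρ a C.base = C.ρ b C.base
    rw [hb, Equiv.Perm.mul_apply, h]

theorem toPt_mk (a : G) : C.toPt (a : G ⧸ H) = C.ρ a C.base := rfl

theorem toPt_smul (a : G) (q : G ⧸ H) : C.toPt (a • q) = C.ρ a (C.toPt q) := by
  induction q using QuotientGroup.induction_on with
  | _ b =>
    rw [MulAction.Quotient.smul_coe, toPt_mk, toPt_mk, smul_eq_mul, map_mul, Equiv.Perm.mul_apply]

/-- The map from table points to cosets. -/
noncomputable def ofPt (c : Fin C.n) : G ⧸ H :=
  node C.g C.F ((1 : G) : G ⧸ H) (C.nodeOf c)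

theorem ofPt_gen (x : ℕ) (c : Fin C.n) : C.ofPt (C.ρ (C.g x) c) = C.g x • C.ofPt c := by
  by_cases hx : x < C.ng
  swap
  · rw [C.g_high x (by omega)]; simp
  have h := (allIn_iff _ _ _).1 C.closed c (Nat.zero_le _) (by omega)
  have h := (allIn_iff _ _ _).1 h x (Nat.zero_le _) (by omega)
  simp only [Bool.and_eq_true, beq_iff_eq, Nat.blt_eq] at h
  obtain ⟨⟨⟨hN, hl⟩, hs⟩, he⟩ := h
  have hR : ∀ r ∈ C.R, ∀ q : G ⧸ H, act C.g r q = q := fun r hr q => by
    rw [act_eq_prod, C.rels r hr, one_smul]
  have hS : ∀ r ∈ C.S, act C.g r ((1 : G) : G ⧸ H) = ((1 : G) : G ⧸ H) := fun r hr => by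
    rw [act_eq_prod, MulAction.Quotient.smul_coe, smul_eq_mul, mul_one, eq_comm, QuotientGroup.eq,
      inv_one, one_mul]
    exact (SetLike.ext_iff.1 C.sub _).2 (Subgroup.subset_closure (List.mem_map.2 ⟨r, hr, rfl⟩))
  have hfact := all_facts C.g_sq (C.g_high 15 C.ng_le) ((1 : G) : G ⧸ H) hR hS C.defs C.deds
    (C.edge x c / 2) hN
  have h2 := fact_oriented C.g_sq hfact
  rw [hl, hs, he] at h2
  have hv : ((C.ρ (C.g x) c : Fin C.n) : ℕ) = C.T x c := by
    rw [C.ρ_g]; exact permOf_val (C.invAll x) c
  show node C.g C.F _ (C.nodeOf _) = C.g x • node C.g C.F _ (C.nodeOf _)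
  rw [hv, h2]

theorem ofPt_mul (a : G) : ∀ c : Fin C.n, C.ofPt (C.ρ a c) = a • C.ofPt c := by
  have ha : a ∈ Subgroup.closure (Set.range C.g) := by rw [C.g_gen]; trivial
  induction ha using Subgroup.closure_induction with
  | mem x hx => obtain ⟨k, rfl⟩ := hx; exact fun c => C.ofPt_gen k c
  | one => intro c; simp
  | mul a b _ _ ha hb => intro c; rw [map_mul, Equiv.Perm.mul_apply, ha, hb, mul_smul]
  | inv a _ ha =>
    intro c
    have h := ha (C.ρ a⁻¹ c)
    rw [← Equiv.Perm.mul_apply, ← map_mul, mul_inv_cancel, map_one, Equiv.Perm.one_apply] at h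
    rw [h, inv_smul_smul]

theorem ofPt_toPt (q : G ⧸ H) : C.ofPt (C.toPt q) = q := by
  induction q using QuotientGroup.induction_on with
  | _ a =>
    have h0 : C.ofPt C.base = ((1 : G) : G ⧸ H) := by
      show node C.g C.F _ (C.nodeOf 0) = _
      rw [C.node0, node_zero]
    rw [toPt_mk, ofPt_mul, h0, MulAction.Quotient.smul_coe, smul_eq_mul, mul_one]

theorem toPt_surjective : Function.Surjective C.toPt := by
  intro c
  induction hk : (c : ℕ) using Nat.strong_induction_on generalizing c with
  | _ k ih =>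
    subst hk
    have h := (allIn_iff _ _ _).1 C.connected c (Nat.zero_le _) (by omega)
    simp only [Bool.or_eq_true, Bool.and_eq_true, beq_iff_eq, Nat.blt_eq] at h
    rcases h with h | ⟨hlt, hT⟩
    · exact ⟨((1 : G) : G ⧸ H), Fin.ext (by rw [toPt_mk, map_one, h]; rfl)⟩
    · obtain ⟨q, hq⟩ := ih _ hlt ⟨C.par c / 16, by omega⟩ rfl
      refine ⟨C.g (C.par c % 16) • q, ?_⟩
      rw [toPt_smul, hq, C.ρ_g]
      exact Fin.ext ((permOf_val (C.invAll _) _).trans hT)

/-- Cosets correspond to table points. -/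
noncomputable def ptEquiv : G ⧸ H ≃ Fin C.n :=
  Equiv.ofBijective C.toPt ⟨Function.LeftInverse.injective C.ofPt_toPt, C.toPt_surjective⟩

theorem index_eq (C : Cert G H) : H.index = C.n := by
  rw [Subgroup.index_eq_card, Nat.card_congr C.ptEquiv, Nat.card_fin]

/-- The orbit of a table point, given by a checked bit set. -/
theorem exists_orbit {s m sz : ℕ} {l : List ℕ} (hs : s < C.n)
    (hgrow : growOK C.T (C.S.map List.reverse) m l (2 ^ s) = true)
    (hinv : allIn (fun c => bif m.testBit c then
      allIn (fun i => m.testBit (runR C.T (C.S.getD i []).reverse c)) 0 C.S.length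
      else true) 0 C.n = true)
    (hcnt : countIn m.testBit 0 C.n = sz) :
    ∃ q : G ⧸ H, (MulAction.orbit H q).ncard = sz ∧
      ∀ p : G ⧸ H, p ∈ MulAction.orbit H q ↔ m.testBit (C.toPt p : Fin C.n) = true := by
  have hgmem : ∀ i, i < C.S.length → ((C.S.getD i []).reverse.map C.g).prod ∈ H := fun i hi => by
    refine (SetLike.ext_iff.1 C.sub _).2 (Subgroup.subset_closure ?_)
    rw [List.getD_eq_getElem _ _ hi]
    exact List.mem_map.2 ⟨_, List.getElem_mem hi, rfl⟩
  -- invariance of the bit set
  have hstab : ∀ h ∈ H, ∀ c : Fin C.n,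
      m.testBit c = true ↔ m.testBit (C.ρ h c : Fin C.n) = true := by
    intro h hh
    rw [C.sub] at hh
    induction hh using Subgroup.closure_induction with
    | mem x hx =>
      simp only [Set.mem_setOf_eq, List.mem_map] at hx
      obtain ⟨r, hr, rfl⟩ := hx
      obtain ⟨i, hi, rfl⟩ := List.mem_iff_getElem.1 hr
      set p := C.ρ ((C.S[i].reverse.map C.g).prod)
      have hmaps : Set.MapsTo p {c : Fin C.n | m.testBit c = true}
          {c : Fin C.n | m.testBit c = true} := by
        intro c hc
        have h := (allIn_iff _ _ _).1 hinv c (Nat.zero_le _) (by omega)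
        rw [Set.mem_setOf_eq] at hc
        rw [hc, cond_true] at h
        have h := (allIn_iff _ _ _).1 h i (Nat.zero_le _) (by omega)
        rw [List.getD_eq_getElem _ _ hi] at h
        rw [Set.mem_setOf_eq]
        rw [← prod_ρ_val] at h
        exact h
      have hsurj : Set.SurjOn p {c : Fin C.n | m.testBit c = true}
          {c : Fin C.n | m.testBit c = true} :=
        ((Set.toFinite _).injOn_iff_bijOn_of_mapsTo hmaps).1 (Equiv.injective p).injOn |>.surjOn
      intro c
      refine ⟨fun hc => hmaps hc, fun hc => ?_⟩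
      obtain ⟨d, hd, hdc⟩ := hsurj hc
      rwa [← (Equiv.injective p) hdc]
    | one => simp
    | mul a b _ _ ha hb => intro c; rw [map_mul, Equiv.Perm.mul_apply]; exact (hb c).trans (ha _)
    | inv a _ ha =>
      intro c
      rw [ha (C.ρ a⁻¹ c), ← Equiv.Perm.mul_apply, ← map_mul, mul_inv_cancel, map_one,
        Equiv.Perm.one_apply]
  -- every point of the bit set is reached
  set q := C.ptEquiv.symm ⟨s, hs⟩
  have hq : C.toPt q = ⟨s, hs⟩ := C.ptEquiv.apply_symm_apply ⟨s, hs⟩
  have hreach : ∀ (l : List ℕ) (seen : ℕ),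
      growOK C.T (C.S.map List.reverse) m l seen = true →
      (∀ c : ℕ, seen.testBit c = true → ∃ h : H, ((C.toPt (h • q) : Fin C.n) : ℕ) = c) →
      ∀ c : ℕ, m.testBit c = true → ∃ h : H, ((C.toPt (h • q) : Fin C.n) : ℕ) = c := by
    intro l
    induction l with
    | nil =>
      intro seen hg hseen c hc
      simp only [growOK, beq_iff_eq] at hg
      exact hseen c (hg ▸ hc)
    | cons e l ih =>
      intro seen hg hseen
      simp only [growOK, Bool.and_eq_true, beq_iff_eq] at hg
      obtain ⟨⟨hb, he⟩, hg⟩ := hg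
      apply ih _ hg
      intro c hc
      rw [Nat.testBit_lor, Bool.or_eq_true, Nat.testBit_two_pow, decide_eq_true_iff] at hc
      rcases hc with hc | hc
      · exact hseen c hc
      · obtain ⟨h, hh⟩ := hseen _ hb
        subst hc
        by_cases hi : fld e 2 < C.S.length
        · refine ⟨⟨_, hgmem _ hi⟩ * h, ?_⟩
          rw [mul_smul]
          show ((C.toPt ((((C.S.getD (fld e 2) []).reverse.map C.g).prod) • (h • q)) : Fin C.n) : ℕ)
            = fld e 0
          rw [toPt_smul, prod_ρ_val, hh, ← he]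
          simp [List.getD_eq_getElem?_getD, hi]
        · rw [List.getD_eq_default _ _ (by simp; omega)] at he
          exact ⟨h, hh.trans he⟩
  have hmem : ∀ p : G ⧸ H, p ∈ MulAction.orbit H q ↔ m.testBit (C.toPt p : Fin C.n) = true := by
    have hstart : ∀ c : ℕ, (2 ^ s).testBit c = true → ∃ h : H,
        ((C.toPt (h • q) : Fin C.n) : ℕ) = c := by
      intro c hc
      rw [Nat.testBit_two_pow, decide_eq_true_iff] at hc
      exact ⟨1, by rw [one_smul, hq]; exact hc⟩
    have hsm : m.testBit s = true := by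
      have : ∀ (l : List ℕ) (seen : ℕ), growOK C.T (C.S.map List.reverse) m l seen = true →
          seen.testBit s = true → m.testBit s = true := by
        intro l
        induction l with
        | nil => intro seen h hb; simp only [growOK, beq_iff_eq] at h; exact h ▸ hb
        | cons e l ih =>
          intro seen h hb
          simp only [growOK, Bool.and_eq_true] at h
          exact ih _ h.2 (by rw [Nat.testBit_lor, hb, Bool.true_or])
      exact this l _ hgrow (by simp)
    intro p
    constructor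
    · rintro ⟨h, rfl⟩
      show m.testBit (C.toPt ((h : G) • q) : Fin C.n) = true
      rw [toPt_smul, hq]
      exact (hstab h h.2 _).1 hsm
    · intro hp
      obtain ⟨h, hh⟩ := hreach l _ hgrow hstart _ hp
      exact ⟨h, C.ptEquiv.injective (Fin.ext hh)⟩
  refine ⟨q, ?_, hmem⟩
  have hcount : ∀ (p : ℕ → Bool) (k lo : ℕ),
      countIn p lo k = ((Finset.Ico lo (lo + k)).filter fun c => p c = true).card := by
    intro p k
    induction k with
    | zero => intro lo; simp [countIn]
    | succ k ih =>
      intro lo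
      have hins : Finset.Ico lo (lo + (k + 1)) = insert lo (Finset.Ico (lo + 1) (lo + 1 + k)) := by
        ext; simp; omega
      rw [countIn, ih, hins, Finset.filter_insert]
      rcases Bool.eq_false_or_eq_true (p lo) with h | h <;> simp [h]
  rw [← hcnt, hcount, Nat.zero_add, ← Set.ncard_coe_finset,
    ← Set.ncard_image_of_injective _ C.ptEquiv.injective,
    ← Set.ncard_image_of_injective _ (Fin.val_injective (n := C.n))]
  congr 1
  ext c
  simp only [Set.mem_image, Finset.coe_filter, Finset.mem_Ico, Set.mem_setOf_eq]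
  constructor
  · rintro ⟨_, ⟨p, hp, rfl⟩, rfl⟩
    exact ⟨⟨Nat.zero_le _, Fin.isLt _⟩, (hmem p).1 hp⟩
  · rintro ⟨⟨-, hc⟩, hm⟩
    refine ⟨⟨c, hc⟩, ⟨C.ptEquiv.symm ⟨c, hc⟩, ?_, C.ptEquiv.apply_symm_apply _⟩, rfl⟩
    rw [hmem, show C.toPt (C.ptEquiv.symm ⟨c, hc⟩) = ⟨c, hc⟩ from C.ptEquiv.apply_symm_apply _]
    exact hm

end Cert

end H29.CosetCert
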