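import Cfsg.Agent.H29.CosetCert.Sound

/-!
# An upper bound for the order of a subgroup generated by some of the generators
-/

set_option autoImplicit false

namespace H29.CosetCert

/-- The subgroup generated by the generators selected by the bits of `mask`. -/
def maskGroup {G : Type*} [Group G] (g : ℕ → G) (mask : ℕ) : Subgroup G :=
  Subgroup.closure {e | ∃ x, mask.testBit x = true ∧ g x = e}

/-- A coset enumeration certificate for the subgroup given by `sub` inside the one given by `mask`. -/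
structure Lvl where
  /-- generators of the bigger group -/
  mask : ℕ
  /-- generators of the smaller group -/
  sub : ℕ
  /-- number of cosets -/
  n : ℕ
  /-- relators -/
  R : List (List ℕ)
  /-- subgroup generators, as words -/
  S : List (List ℕ)
  /-- facts -/
  F : ℕ → ℕ
  /-- number of defining facts -/
  nd : ℕ
  /-- number of facts -/
  N : ℕ
  /-- table -/
  T : ℕ → ℕ → ℕ
  /-- node of a coset -/
  nodeOf : ℕ → ℕ
  /-- fact behind an entry -/
  edge : ℕ → ℕ → ℕ

/-- The checks on the words of a level. -/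
def Lvl.wordsOK (L : Lvl) : Bool :=
  L.R.all (fun r => r.all fun x => L.mask.testBit x) &&
    L.S.all (fun s => s.all fun x => L.sub.testBit x && L.mask.testBit x) && Nat.blt L.mask (2 ^ 15)

/-- The closedness check on one coset. -/
def Lvl.closedAt (L : Lvl) (c : ℕ) : Bool :=
  allIn (fun x => !(L.mask.testBit x) || (Nat.blt (L.edge x c / 2) L.N &&
    let' (L.F (L.edge x c / 2)) == x && oStart L.F (L.edge x c) == L.nodeOf c &&
    oEnd L.F (L.edge x c) == L.nodeOf (L.T x c) && Nat.blt (L.T x c) L.n)) 0 15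

variable {G : Type*} [Group G]

theorem card_maskGroup_le (g : ℕ → G) (hg : ∀ x, g x * g x = 1) (L : Lvl)
    (hR : ∀ r ∈ L.R, (r.reverse.map g).prod = 1) (hw : L.wordsOK = true)
    (hdef : allIn (chkDef L.F) 0 L.nd = true)
    (hded : ∀ k, L.nd ≤ k → k < L.N → ∃ s, chkDed L.F L.R L.S k s = true)
    (h0 : L.nodeOf 0 = 0) (hn : 0 < L.n) (hclosed : allIn L.closedAt 0 L.n = true)
    {b : ℕ} (hfin : (maskGroup g L.sub : Set G).Finite)
    (hb : (maskGroup g L.sub : Set G).ncard ≤ b) :
    (maskGroup g L.mask : Set G).Finite ∧ (maskGroup g L.mask : Set G).ncard ≤ L.n * b := by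
  classical
  set H := maskGroup g L.sub with hH
  set gm : ℕ → G := fun x => if L.mask.testBit x = true then g x else 1 with hgm
  simp only [Lvl.wordsOK, Bool.and_eq_true, List.all_eq_true, Nat.blt_eq] at hw
  obtain ⟨⟨hwR, hwS⟩, hmask⟩ := hw
  have hsq : ∀ x, gm x * gm x = 1 := fun x => by
    simp only [hgm]; split_ifs <;> simp [hg]
  have h15 : gm 15 = 1 := by
    simp [hgm, Nat.testBit_lt_two_pow hmask]
  have hsame : ∀ w : List ℕ, (∀ x ∈ w, L.mask.testBit x = true) → w.map gm = w.map g :=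
    fun w hw => List.map_congr_left fun x hx => by simp [hgm, hw x hx]
  have hR' : ∀ r ∈ L.R, ∀ q : G ⧸ H, act gm r q = q := fun r hr q => by
    rw [act_eq_prod, hsame _ (fun x hx => hwR r hr x (List.mem_reverse.1 hx)), hR r hr, one_smul]
  have hS' : ∀ s ∈ L.S, act gm s ((1 : G) : G ⧸ H) = ((1 : G) : G ⧸ H) := fun s hs => by
    rw [act_eq_prod, hsame _ (fun x hx => (hwS s hs x (List.mem_reverse.1 hx)).2),
      MulAction.Quotient.smul_coe, smul_eq_mul, mul_one, eq_comm, QuotientGroup.eq, inv_one, one_mul]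
    refine list_prod_mem fun e he => ?_
    obtain ⟨x, hx, rfl⟩ := List.mem_map.1 he
    exact Subgroup.subset_closure ⟨x, (hwS s hs x (List.mem_reverse.1 hx)).1, rfl⟩
  set φ := node gm L.F ((1 : G) : G ⧸ H) with hφ
  have hfacts := all_facts hsq h15 ((1 : G) : G ⧸ H) hR' hS' hdef hded
  let rep : ℕ → G := fun c => (φ (L.nodeOf c)).out
  have hrep : ∀ c, ((rep c : G) : G ⧸ H) = φ (L.nodeOf c) := fun c => Quotient.out_eq _
  have hstep : ∀ x, L.mask.testBit x = true → ∀ c, c < L.n → ∃ d, d < L.n ∧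
      g x • φ (L.nodeOf c) = φ (L.nodeOf d) ∧ g x • φ (L.nodeOf d) = φ (L.nodeOf c) := by
    intro x hx c hc
    have hx15 : x < 15 := by
      by_contra hge
      rw [Nat.testBit_lt_two_pow (hmask.trans_le (Nat.pow_le_pow_right (by norm_num) (by omega)))]
        at hx
      simp at hx
    have h := (allIn_iff _ _ _).1 hclosed c (Nat.zero_le _) (by omega)
    have h := (allIn_iff _ _ _).1 h x (Nat.zero_le _) (by omega)
    simp only [hx, Bool.not_true, Bool.false_or, Bool.and_eq_true, beq_iff_eq, Nat.blt_eq] at h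
    obtain ⟨⟨⟨⟨hN, hl⟩, hs⟩, he⟩, hT⟩ := h
    have h2 := fact_oriented hsq (hfacts _ hN)
    rw [hl, hs, he] at h2
    simp only [hgm, hx, if_true] at h2
    exact ⟨L.T x c, hT, h2, by rw [hφ, ← h2, ← mul_smul, hg, one_smul]⟩
  have hcover : ∀ k ∈ maskGroup g L.mask, ∀ c, c < L.n → ∃ d, d < L.n ∧
      k • φ (L.nodeOf c) = φ (L.nodeOf d) := by
    intro k hk
    induction hk using Subgroup.closure_induction'' with
    | mem x hx =>
      obtain ⟨y, hy, rfl⟩ := hx
      intro c hc
      obtain ⟨d, hd, h, -⟩ := hstep y hy c hc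
      exact ⟨d, hd, h⟩
    | inv_mem x hx =>
      obtain ⟨y, hy, rfl⟩ := hx
      intro c hc
      obtain ⟨d, hd, h, -⟩ := hstep y hy c hc
      exact ⟨d, hd, by rw [inv_eq_of_mul_eq_one_right (hg y)]; exact h⟩
    | one => exact fun c hc => ⟨c, hc, one_smul _ _⟩
    | mul a a' _ _ ha ha' =>
      intro c hc
      obtain ⟨d, hd, h⟩ := ha' c hc
      obtain ⟨e, he, h'⟩ := ha d hd
      exact ⟨e, he, by rw [mul_smul, h, h']⟩
  have hbase : φ (L.nodeOf 0) = ((1 : G) : G ⧸ H) := by rw [h0, hφ, node_zero]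
  have hsub : (maskGroup g L.mask : Set G) ⊆
      (fun p : ℕ × G => rep p.1 * p.2) '' (Set.Iio L.n ×ˢ (H : Set G)) := by
    intro k hk
    obtain ⟨d, hd, h⟩ := hcover k hk 0 hn
    rw [hbase, MulAction.Quotient.smul_coe, smul_eq_mul, mul_one, ← hrep d] at h
    refine ⟨(d, (rep d)⁻¹ * k), ⟨hd, ?_⟩, by simp⟩
    exact QuotientGroup.eq.1 h.symm
  have hfin2 : (Set.Iio L.n ×ˢ (H : Set G)).Finite := (Set.finite_Iio _).prod hfin
  refine ⟨(hfin2.image _).subset hsub, ?_⟩
  calc (maskGroup g L.mask : Set G).ncard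
      ≤ ((fun p : ℕ × G => rep p.1 * p.2) '' (Set.Iio L.n ×ˢ (H : Set G))).ncard :=
        Set.ncard_le_ncard hsub (hfin2.image _)
    _ ≤ (Set.Iio L.n ×ˢ (H : Set G)).ncard := Set.ncard_image_le hfin2
    _ = L.n * (H : Set G).ncard := by
        rw [Set.ncard_prod, ← Finset.coe_range, Set.ncard_coe_finset, Finset.card_range]
    _ ≤ L.n * b := Nat.mul_le_mul_left _ hb

/-- The empty selection gives the trivial group. -/
theorem card_maskGroup_zero (g : ℕ → G) :
    (maskGroup g 0 : Set G).Finite ∧ (maskGroup g 0 : Set G).ncard ≤ 1 := by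
  have h : maskGroup g 0 = ⊥ := by simp [maskGroup]
  rw [h, Subgroup.coe_bot]
  exact ⟨Set.finite_singleton 1, (Set.ncard_singleton 1).le⟩

end H29.CosetCert
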