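import Cfsg.Agent.H29.CosetCert.Main
import Cfsg.Agent.H29.CosetCert.Upper

/-!
# Order and simplicity from checked permutation data
-/

set_option autoImplicit false

namespace H29.CosetCert

/-- A straight-line program of permutations, given by tables. -/
structure Slp where
  /-- number of generators -/
  ng : ℕ
  /-- number of entries -/
  K : ℕ
  /-- the word defining an entry from earlier ones -/
  word : ℕ → List ℕ
  /-- the table of an entry -/
  tbl : ℕ → ℕ → ℕ

/-- Check entry `k` on the points below `n`. -/
def Slp.entryOK (L : Slp) (T : ℕ → ℕ → ℕ) (n k : ℕ) : Bool :=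
  bif Nat.blt k L.ng then allIn (fun c => L.tbl k c == T k c) 0 n
  else (L.word k).all (fun j => Nat.blt j k) &&
    allIn (fun c => runR L.tbl (L.word k) c == L.tbl k c) 0 n

/-- A level of a stabilizer chain: base point, elements, orbit as a bit set, its growth, its size. -/
structure BaseLevel where
  /-- the base point -/
  b : ℕ
  /-- indices of elements -/
  U : List ℕ
  /-- orbit -/
  m : ℕ
  /-- growth of the orbit -/
  grow : List ℕ
  /-- size of the orbit -/
  sz : ℕ

/-- Check a stabilizer chain. -/
def chainOK (L : Slp) (n : ℕ) : List BaseLevel → Bool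
  | [] => true
  | l :: rest => Nat.blt l.b n && l.U.all (fun u => Nat.blt u L.K) &&
      rest.all (fun r => r.U.all fun u => L.tbl u l.b == l.b) &&
      growOK L.tbl (l.U.map fun u => [u]) l.m l.grow (2 ^ l.b) &&
      countIn l.m.testBit 0 n == l.sz && chainOK L n rest

/-- An assertion that entry `k` is `h · w · h'` with `h'` inverse to `h`. -/
structure NItem where
  /-- the entry -/
  k : ℕ
  /-- the conjugating entry -/
  h : ℕ
  /-- its inverse -/
  h' : ℕ
  /-- entries already known to lie in the normal subgroup -/
  w : List ℕ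

/-- Check that all items follow from those in `known`, and that all entries below `ng` get known. -/
def normOK (L : Slp) (n : ℕ) : List NItem → List ℕ → Bool
  | [], known => allIn (fun x => known.elem x) 0 L.ng
  | i :: rest, known => Nat.blt i.k L.K && Nat.blt i.h L.K && Nat.blt i.h' L.K &&
      i.w.all (fun j => known.elem j && Nat.blt j L.K) &&
      allIn (fun c => runR L.tbl [i.h, i.h'] c == c &&
        runR L.tbl (i.h :: (i.w ++ [i.h'])) c == L.tbl i.k c) 0 n &&
      normOK L n rest (i.k :: known)

namespace Cert

variable {G : Type*} [Group G] {H : Subgroup G} (C : Cert G H) (L : Slp)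

theorem elems (hng : L.ng ≤ L.K) (h : allIn (L.entryOK C.T C.n) 0 L.K = true) :
    ∀ k, k < L.K → ∃ e : G, ∀ c : Fin C.n, ((C.ρ e c : Fin C.n) : ℕ) = L.tbl k c := by
  classical
  intro k
  induction k using Nat.strong_induction_on with
  | _ k ih =>
    intro hk
    have h1 := (allIn_iff _ _ _).1 h k (Nat.zero_le _) (by omega)
    unfold Slp.entryOK at h1
    rcases Bool.eq_false_or_eq_true (Nat.blt k L.ng) with hc | hc <;> rw [hc] at h1 <;>
      simp only [cond_true, cond_false] at h1
    · refine ⟨C.g k, fun c => ?_⟩
      rw [C.ρ_g, permOf_val (C.invAll k)]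
      exact (beq_iff_eq.1 ((allIn_iff _ _ _).1 h1 c (Nat.zero_le _) (by omega))).symm
    · simp only [Bool.and_eq_true, List.all_eq_true, Nat.blt_eq] at h1
      obtain ⟨hw, ht⟩ := h1
      let el : ℕ → G := fun j => if hj : j < k ∧ j < L.K then (ih j hj.1 hj.2).choose else 1
      refine ⟨((L.word k).map el).prod, fun c => ?_⟩
      rw [← beq_iff_eq.1 ((allIn_iff _ _ _).1 ht c (Nat.zero_le _) (by omega))]
      generalize L.word k = w at hw
      induction w generalizing c with
      | nil => simp [runR]
      | cons x w ihw =>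
        rw [List.map_cons, List.prod_cons, map_mul, Equiv.Perm.mul_apply, runR_cons,
          ← ihw c (fun y hy => hw y (List.mem_cons_of_mem _ hy))]
        have hx : x < k ∧ x < L.K := ⟨hw x List.mem_cons_self, by
          have := hw x List.mem_cons_self; omega⟩
        simp only [el, dif_pos hx]
        exact (ih x hx.1 hx.2).choose_spec _

theorem word_val {L : Slp} {el : ℕ → G}
    (hel : ∀ k, k < L.K → ∀ c : Fin C.n, ((C.ρ (el k) c : Fin C.n) : ℕ) = L.tbl k c) :
    ∀ (w : List ℕ), (∀ x ∈ w, x < L.K) → ∀ c : Fin C.n,
      ((C.ρ (w.map el).prod c : Fin C.n) : ℕ) = runR L.tbl w c := by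
  intro w
  induction w with
  | nil => intro _ c; simp [runR]
  | cons x w ih =>
    intro hw c
    rw [List.map_cons, List.prod_cons, map_mul, Equiv.Perm.mul_apply, runR_cons,
      hel x (hw x List.mem_cons_self), ih (fun y hy => hw y (List.mem_cons_of_mem _ hy))]

/-- The product of the orbit sizes of a checked chain is a lower bound for the image. -/
theorem chain_le (hng : L.ng ≤ L.K) (h : allIn (L.entryOK C.T C.n) 0 L.K = true)
    (ls : List BaseLevel) (hls : chainOK L C.n ls = true) :
    (ls.map BaseLevel.sz).prod ≤ Nat.card C.ρ.range := by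
  classical
  let el : ℕ → G := fun k => if hk : k < L.K then (C.elems L hng h k hk).choose else 1
  have hel : ∀ k, k < L.K → ∀ c : Fin C.n, ((C.ρ (el k) c : Fin C.n) : ℕ) = L.tbl k c :=
    fun k hk c => by simp only [el, dif_pos hk]; exact (C.elems L hng h k hk).choose_spec c
  have key : ∀ (ls : List BaseLevel) (K : Subgroup (Equiv.Perm (Fin C.n))),
      chainOK L C.n ls = true → (∀ l ∈ ls, ∀ u ∈ l.U, C.ρ (el u) ∈ K) →
      (ls.map BaseLevel.sz).prod ≤ Nat.card K := by
    intro ls
    induction ls with
    | nil => intro K _ _; exact Nat.card_pos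
    | cons l rest ih =>
      intro K hl hU
      simp only [chainOK, Bool.and_eq_true, List.all_eq_true, Nat.blt_eq, beq_iff_eq] at hl
      obtain ⟨⟨⟨⟨⟨hb, hUK⟩, hfix⟩, hgrow⟩, hcnt⟩, hrest⟩ := hl
      set b : Fin C.n := ⟨l.b, hb⟩
      let K' : Subgroup (Equiv.Perm (Fin C.n)) := K ⊓ MulAction.stabilizer _ b
      have hK'U : ∀ r ∈ rest, ∀ u ∈ r.U, C.ρ (el u) ∈ K' := fun r hr u hu => by
        refine ⟨hU r (List.mem_cons_of_mem _ hr) u hu, ?_⟩
        show C.ρ (el u) b = b
        apply Fin.ext
        have huK : u < L.K := by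
          have hall : ∀ (ls : List BaseLevel), chainOK L C.n ls = true → ∀ r ∈ ls, ∀ u ∈ r.U,
              u < L.K := by
            intro ls
            induction ls with
            | nil => simp
            | cons a as iha =>
              intro hc r hr u hu
              simp only [chainOK, Bool.and_eq_true, List.all_eq_true, Nat.blt_eq, beq_iff_eq] at hc
              rcases List.mem_cons.1 hr with rfl | hr
              · exact hc.1.1.1.1.2 u hu
              · exact iha hc.2 r hr u hu
          exact hall rest hrest r hr u hu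
        rw [hel u huK]
        exact hfix r hr u hu
      have hK' := ih K' hrest hK'U
      have horb : (l.sz : ℕ) ≤ Nat.card (MulAction.orbit K b) := by
        rw [Nat.card_coe_set_eq]
        have hmem : ∀ (g : List ℕ) (seen : ℕ),
            growOK L.tbl (l.U.map fun u => [u]) l.m g seen = true →
            (∀ c : ℕ, seen.testBit c = true → ∃ d ∈ MulAction.orbit K b, (d : ℕ) = c) →
            ∀ c : ℕ, l.m.testBit c = true → ∃ d ∈ MulAction.orbit K b, (d : ℕ) = c := by
          intro g
          induction g with
          | nil =>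
            intro seen hg hseen c hc
            simp only [growOK, beq_iff_eq] at hg
            exact hseen c (hg ▸ hc)
          | cons e g ihg =>
            intro seen hg hseen
            simp only [growOK, Bool.and_eq_true, beq_iff_eq] at hg
            obtain ⟨⟨hbit, he⟩, hg⟩ := hg
            apply ihg _ hg
            intro c hc
            rw [Nat.testBit_lor, Bool.or_eq_true, Nat.testBit_two_pow, decide_eq_true_iff] at hc
            rcases hc with hc | hc
            · exact hseen c hc
            obtain ⟨d, hd, hdc⟩ := hseen _ hbit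
            subst hc
            by_cases hi : fld e 2 < l.U.length
            · refine ⟨C.ρ (el l.U[fld e 2]) d, ?_, ?_⟩
              · obtain ⟨k, rfl⟩ := hd
                exact ⟨⟨_, hU l List.mem_cons_self _ (List.getElem_mem hi)⟩ * k,
                  by show (_ * k) • b = _; rw [mul_smul]; rfl⟩
              · rw [hel _ (hUK _ (List.getElem_mem hi)), hdc, ← he]
                simp [List.getD_eq_getElem?_getD, hi, runR_cons, runR]
            · rw [List.getD_eq_default _ _ (by simp; omega)] at he
              exact ⟨d, hd, hdc.trans he⟩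
        have hall := hmem _ _ hgrow (fun c hc => by
          rw [Nat.testBit_two_pow, decide_eq_true_iff] at hc
          exact ⟨b, MulAction.mem_orbit_self b, hc⟩)
        have hcount : ∀ (k lo : ℕ),
            countIn l.m.testBit lo k =
              ((Finset.Ico lo (lo + k)).filter fun c => l.m.testBit c = true).card := by
          intro k
          induction k with
          | zero => intro lo; simp [countIn]
          | succ k ihk =>
            intro lo
            have hins : Finset.Ico lo (lo + (k + 1)) =
                insert lo (Finset.Ico (lo + 1) (lo + 1 + k)) := by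
              ext; simp; omega
            rw [countIn, ihk, hins, Finset.filter_insert]
            rcases Bool.eq_false_or_eq_true (l.m.testBit lo) with hh | hh <;> simp [hh]
        rw [← hcnt, hcount, ← Set.ncard_coe_finset,
          ← Set.ncard_image_of_injective (MulAction.orbit K b) Fin.val_injective]
        refine Set.ncard_le_ncard ?_ (Set.toFinite _)
        intro c hc
        simp only [Finset.coe_filter, Finset.mem_Ico, Set.mem_setOf_eq] at hc
        obtain ⟨d, hd, hdc⟩ := hall c hc.2
        exact ⟨d, hd, hdc⟩
      have hst : Nat.card (MulAction.stabilizer K b) = Nat.card K' := by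
        refine Nat.card_congr ⟨fun x => ⟨x.1.1, x.1.2, x.2⟩, fun x => ⟨⟨x.1, x.2.1⟩, x.2.2⟩,
          fun _ => rfl, fun _ => rfl⟩
      rw [List.map_cons, List.prod_cons,
        ← Nat.card_congr (MulAction.orbitProdStabilizerEquivGroup K b), Nat.card_prod, hst]
      exact Nat.mul_le_mul horb hK'
  exact key ls _ hls (fun l _ u _ => ⟨el u, rfl⟩)

/-- The action is faithful when the chain reaches the order of the group. -/
theorem injective_of_chain [Finite G] (hng : L.ng ≤ L.K)
    (h : allIn (L.entryOK C.T C.n) 0 L.K = true) (ls : List BaseLevel)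
    (hls : chainOK L C.n ls = true) {o : ℕ} (ho : (ls.map BaseLevel.sz).prod = o)
    (hle : Nat.card G ≤ o) : Function.Injective C.ρ ∧ Nat.card G = o := by
  have h1 := C.chain_le L hng h ls hls
  rw [ho] at h1
  have h2 : Nat.card C.ρ.range ≤ Nat.card G :=
    Nat.card_le_card_of_surjective _ C.ρ.rangeRestrict_surjective
  have hcard : Nat.card G = Nat.card C.ρ.range := by omega
  refine ⟨?_, by omega⟩
  have := ((Nat.bijective_iff_surjective_and_card C.ρ.rangeRestrict).2
    ⟨C.ρ.rangeRestrict_surjective, hcard⟩).1
  exact MonoidHom.rangeRestrict_injective_iff.1 this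

/-- Simplicity: two suborbits whose sizes forbid blocks, and generators in the normal closure of an
element of order prime to the point stabilizer. -/
theorem isSimpleGroup_of_checks [Finite G] [Nontrivial G] (hinj : Function.Injective C.ρ)
    (hng : L.ng = C.ng) (hngK : L.ng ≤ L.K) (h : allIn (L.entryOK C.T C.n) 0 L.K = true)
    {m₁ m₂ s₁ s₂ : ℕ} {q₁ q₂ : G ⧸ H}
    (h₁ : (MulAction.orbit H q₁).ncard = s₁)
    (h₁' : ∀ p, p ∈ MulAction.orbit H q₁ ↔ m₁.testBit (C.toPt p : Fin C.n) = true)
    (h₂ : (MulAction.orbit H q₂).ncard = s₂)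
    (h₂' : ∀ p, p ∈ MulAction.orbit H q₂ ↔ m₂.testBit (C.toPt p : Fin C.n) = true)
    (hcov : allIn (fun c => c == 0 || m₁.testBit c || m₂.testBit c) 0 C.n = true)
    (hm₁ : m₁.testBit 0 = false) (hm₂ : m₂.testBit 0 = false)
    (hd₁ : ¬ (1 + s₁) ∣ C.n) (hd₂ : ¬ (1 + s₂) ∣ C.n)
    {x p : ℕ} (hx : x < L.K) (hp : (Nat.card H).Coprime p)
    (hxp : allIn (fun c => runR L.tbl (List.replicate p x) c == c) 0 C.n = true)
    (items : List NItem) (hit : normOK L C.n items [x] = true) : IsSimpleGroup G := by
  classical
  let el : ℕ → G := fun k => if hk : k < L.K then (C.elems L hngK h k hk).choose else 1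
  have hel : ∀ k, k < L.K → ∀ c : Fin C.n, ((C.ρ (el k) c : Fin C.n) : ℕ) = L.tbl k c :=
    fun k hk c => by simp only [el, dif_pos hk]; exact (C.elems L hngK h k hk).choose_spec c
  have heq : ∀ {a a' : G}, (∀ c : Fin C.n, ((C.ρ a c : Fin C.n) : ℕ) = (C.ρ a' c : Fin C.n)) →
      a = a' := fun hh => hinj (Equiv.ext fun c => Fin.ext (hh c))
  refine ⟨fun N hN => ?_⟩
  by_cases hbot : N = ⊥
  · exact Or.inl hbot
  refine Or.inr ?_
  set J := H ⊔ N
  -- the block of the base point
  set B : Set (G ⧸ H) := (fun a : G => (a : G ⧸ H)) '' (J : Set G) with hB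
  have hJtop : J = ⊤ := by
    have hinvB : ∀ (k : H) q, q ∈ B → k • q ∈ B := by
      rintro k _ ⟨a, ha, rfl⟩
      exact ⟨k * a, mul_mem (Subgroup.mem_sup_left k.2) ha, rfl⟩
    have hBcard : B.ncard = H.relIndex J := by
      rw [Subgroup.relIndex, Subgroup.index_eq_card, ← Nat.card_coe_set_eq]
      refine Nat.card_congr (Equiv.symm (Equiv.ofBijective
        (Quotient.lift (fun a : J => (⟨((a : G) : G ⧸ H), a, a.2, rfl⟩ : B)) ?_) ⟨?_, ?_⟩))
      · intro a a' haa'
        apply Subtype.ext
        exact QuotientGroup.eq.2 (Subgroup.mem_subgroupOf.1 (QuotientGroup.leftRel_apply.1 haa'))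
      · intro a a'
        induction a using Quotient.inductionOn with
        | _ a =>
          induction a' using Quotient.inductionOn with
          | _ a' =>
            intro e
            have e' : ((a : G) : G ⧸ H) = ((a' : G) : G ⧸ H) := congrArg Subtype.val e
            exact Quotient.sound (QuotientGroup.leftRel_apply.2
              (Subgroup.mem_subgroupOf.2 (QuotientGroup.eq.1 e')))
      · rintro ⟨_, a, ha, rfl⟩
        exact ⟨Quotient.mk'' ⟨a, ha⟩, rfl⟩
    have hdvd : B.ncard ∣ C.n := by
      rw [hBcard, ← C.index_eq]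
      exact Subgroup.relIndex_dvd_index_of_le le_sup_left |>.trans (dvd_refl _)
    have hbase : ((1 : G) : G ⧸ H) ∈ B := ⟨1, one_mem _, rfl⟩
    have hbase0 : C.toPt ((1 : G) : G ⧸ H) = C.base := by rw [toPt_mk, map_one]; rfl
    have hsubO : ∀ {m : ℕ} {q : G ⧸ H},
        (∀ p, p ∈ MulAction.orbit H q ↔ m.testBit (C.toPt p : Fin C.n) = true) →
        ∀ p ∈ B, m.testBit (C.toPt p : Fin C.n) = true → MulAction.orbit H q ⊆ B := by
      intro m q hq p hp hm r hr
      have hpo := MulAction.orbit_eq_iff.2 ((hq p).2 hm)
      obtain ⟨k, rfl⟩ := (hpo.symm ▸ hr : r ∈ MulAction.orbit H p)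
      exact hinvB k p hp
    have hsplit : ∀ q : G ⧸ H, q = ((1 : G) : G ⧸ H) ∨ q ∈ MulAction.orbit H q₁ ∨
        q ∈ MulAction.orbit H q₂ := by
      intro q
      have hc := (allIn_iff _ _ _).1 hcov (C.toPt q : Fin C.n) (Nat.zero_le _) (by omega)
      simp only [Bool.or_eq_true, beq_iff_eq] at hc
      rcases hc with (hc | hc) | hc
      · exact Or.inl (C.ptEquiv.injective (show C.toPt q = C.toPt _ from
          (Fin.ext hc : C.toPt q = C.base).trans hbase0.symm))
      · exact Or.inr (Or.inl ((h₁' q).2 hc))
      · exact Or.inr (Or.inr ((h₂' q).2 hc))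
    have hnot : ∀ {m : ℕ} {q : G ⧸ H} {s : ℕ}, m.testBit 0 = false →
        (∀ p, p ∈ MulAction.orbit H q ↔ m.testBit (C.toPt p : Fin C.n) = true) →
        (MulAction.orbit H q).ncard = s → B = insert ((1 : G) : G ⧸ H) (MulAction.orbit H q) →
        B.ncard = 1 + s := by
      intro m q s hm hq hs hBeq
      rw [hBeq, Set.ncard_insert_of_notMem (fun hh => by
        have := (hq _).1 hh
        rw [hbase0] at this
        exact Bool.false_ne_true (hm.symm.trans this)), hs, Nat.add_comm]
    have hJne : ∃ p ∈ B, p ≠ ((1 : G) : G ⧸ H) := by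
      by_contra hno
      push_neg at hno
      apply hbot
      rw [eq_bot_iff]
      intro a ha
      rw [Subgroup.mem_bot]
      refine heq fun c => ?_
      obtain ⟨q, rfl⟩ := C.toPt_surjective c
      rw [← toPt_smul, map_one, Equiv.Perm.one_apply]
      congr 2
      induction q using QuotientGroup.induction_on with
      | _ r =>
        have hr := hno _ ⟨r⁻¹ * a * r, Subgroup.mem_sup_right (by
          simpa using hN.conj_mem a ha r⁻¹), rfl⟩
        rw [QuotientGroup.eq, mul_one, Subgroup.inv_mem_iff] at hr
        rw [MulAction.Quotient.smul_coe, smul_eq_mul, QuotientGroup.eq]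
        have : (a * r)⁻¹ * r = (r⁻¹ * a * r)⁻¹ := by group
        rw [this]
        exact inv_mem hr
    obtain ⟨p, hpB, hpne⟩ := hJne
    by_contra hJ
    have hBne : B ≠ Set.univ := fun hu => hJ (eq_top_iff.2 fun a _ => by
      obtain ⟨b, hb, hba⟩ := (hu ▸ Set.mem_univ (a : G ⧸ H) : (a : G ⧸ H) ∈ B)
      have := mul_mem hb (Subgroup.mem_sup_left (T := N) (QuotientGroup.eq.1 hba))
      simpa using this)
    rcases hsplit p with hp' | hp' | hp'
    · exact hpne hp'
    · have h1B := hsubO h₁' p hpB ((h₁' p).1 hp')
      refine hd₁ (hnot hm₁ h₁' h₁ (Set.Subset.antisymm (fun r hr => ?_)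
        (Set.insert_subset hbase h1B)) ▸ hdvd)
      rcases hsplit r with hr' | hr' | hr'
      · exact Or.inl hr'
      · exact Or.inr hr'
      · refine absurd (Set.eq_univ_of_forall fun t => ?_) hBne
        rcases hsplit t with ht | ht | ht
        · exact ht ▸ hbase
        · exact h1B ht
        · exact hsubO h₂' r hr ((h₂' r).1 hr') ht
    · have h2B := hsubO h₂' p hpB ((h₂' p).1 hp')
      refine hd₂ (hnot hm₂ h₂' h₂ (Set.Subset.antisymm (fun r hr => ?_)
        (Set.insert_subset hbase h2B)) ▸ hdvd)
      rcases hsplit r with hr' | hr' | hr'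
      · exact Or.inl hr'
      · refine absurd (Set.eq_univ_of_forall fun t => ?_) hBne
        rcases hsplit t with ht | ht | ht
        · exact ht ▸ hbase
        · exact hsubO h₁' r hr ((h₁' r).1 hr') ht
        · exact h2B ht
      · exact Or.inr hr'
  have hidx : N.index ∣ Nat.card H := by
    have e : N.index = N.relIndex H := by
      rw [← Subgroup.relIndex_top_right, ← hJtop, Subgroup.relIndex_sup_right]
    rw [e]
    exact Subgroup.relIndex_dvd_card N H
  have hxN : el x ∈ N := by
    have hpow : el x ^ p = 1 := by
      refine heq fun c => ?_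
      rw [← List.prod_replicate, ← List.map_replicate,
        word_val C hel _ (fun y hy => (List.eq_of_mem_replicate hy).symm ▸ hx), map_one,
        Equiv.Perm.one_apply]
      exact beq_iff_eq.1 ((allIn_iff _ _ _).1 hxp c (Nat.zero_le _) (by omega))
    have h1 : (QuotientGroup.mk' N (el x)) ^ p = 1 := by rw [← map_pow, hpow, map_one]
    have h2 : (QuotientGroup.mk' N (el x)) ^ (Nat.card H) = 1 := by
      obtain ⟨d, hd⟩ := hidx
      rw [hd, Subgroup.index_eq_card, pow_mul, pow_card_eq_one', one_pow]
    have h3 := pow_gcd_eq_one.2 ⟨h2, h1⟩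
    rw [hp, pow_one] at h3
    exact (QuotientGroup.eq_one_iff _).1 h3
  have hall : ∀ (items : List NItem) (known : List ℕ), normOK L C.n items known = true →
      (∀ k ∈ known, el k ∈ N) → ∀ y, y < L.ng → el y ∈ N := by
    intro items
    induction items with
    | nil =>
      intro known hk hmem y hy
      exact hmem y (List.elem_iff.1 ((allIn_iff _ _ _).1 hk y (Nat.zero_le _) (by omega)))
    | cons i rest ih =>
      intro known hk hmem
      simp only [normOK, Bool.and_eq_true, List.all_eq_true, Nat.blt_eq] at hk
      obtain ⟨⟨⟨⟨⟨hik, hih⟩, hih'⟩, hw⟩, hchk⟩, hrest⟩ := hk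
      refine ih _ hrest fun k hkm => ?_
      rcases List.mem_cons.1 hkm with rfl | hkm
      swap
      · exact hmem k hkm
      have hinv : el i.h' = (el i.h)⁻¹ := by
        rw [← mul_eq_one_iff_eq_inv']
        refine heq fun c => ?_
        have hc := (allIn_iff _ _ _).1 hchk c (Nat.zero_le _) (by omega)
        simp only [Bool.and_eq_true, beq_iff_eq] at hc
        have hv := word_val C hel [i.h, i.h'] (by simp [hih, hih']) c
        simp only [List.map_cons, List.map_nil, List.prod_cons, List.prod_nil, mul_one] at hv
        rw [hv, hc.1, map_one, Equiv.Perm.one_apply]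
      have hek : el i.k = el i.h * (i.w.map el).prod * (el i.h)⁻¹ := by
        refine heq fun c => ?_
        have hc := (allIn_iff _ _ _).1 hchk c (Nat.zero_le _) (by omega)
        simp only [Bool.and_eq_true, beq_iff_eq] at hc
        have hv := word_val C hel (i.h :: (i.w ++ [i.h'])) (by
          intro y hy
          simp only [List.mem_cons, List.mem_append, List.not_mem_nil, or_false] at hy
          rcases hy with rfl | hy | rfl
          exacts [hih, (hw y hy).2, hih']) c
        rw [List.map_cons, List.map_append, List.prod_cons, List.prod_append, List.map_cons,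
          List.map_nil, List.prod_cons, List.prod_nil, mul_one, hinv, ← mul_assoc] at hv
        rw [hel _ hik, hv, hc.2]
      rw [hek]
      refine hN.conj_mem _ (list_prod_mem fun e he => ?_) _
      obtain ⟨y, hy, rfl⟩ := List.mem_map.1 he
      exact hmem y (List.elem_iff.1 (hw y hy).1)
  rw [eq_top_iff, ← C.g_gen, Subgroup.closure_le]
  rintro _ ⟨y, rfl⟩
  by_cases hy : y < L.ng
  · have hgy : C.g y = el y := by
      refine heq fun c => ?_
      rw [C.ρ_g, permOf_val (C.invAll y), hel y (by omega)]
      have h1 := (allIn_iff _ _ _).1 h y (Nat.zero_le _) (by omega)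
      unfold Slp.entryOK at h1
      rw [show Nat.blt y L.ng = true by rwa [Nat.blt_eq], cond_true] at h1
      exact (beq_iff_eq.1 ((allIn_iff _ _ _).1 h1 c (Nat.zero_le _) (by omega))).symm
    rw [hgy]
    exact hall items [x] hit (by simpa using hxN) y hy
  · rw [C.g_high y (by omega)]
    exact one_mem N

end Cert

end H29.CosetCert
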