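import Cfsg.Agent.H29.CosetCert.SimpleMany

/-!
# Order and simplicity from words in the generators, evaluated at base points
-/

set_option autoImplicit false

namespace H29.CosetCert

/-- A level of a stabilizer chain with elements given as words in the generators. -/
structure WLevel where
  /-- the base point -/
  b : ℕ
  /-- elements -/
  U : List (List ℕ)
  /-- orbit -/
  m : ℕ
  /-- growth of the orbit -/
  grow : List ℕ
  /-- size of the orbit -/
  sz : ℕ

/-- Check a stabilizer chain given by words. -/
def chainW (T : ℕ → ℕ → ℕ) (n : ℕ) : List WLevel → Bool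
  | [] => true
  | l :: rest => Nat.blt l.b n &&
      rest.all (fun r => r.U.all fun u => runR T u l.b == l.b) &&
      growOK T l.U l.m l.grow (2 ^ l.b) &&
      countIn l.m.testBit 0 n == l.sz && chainW T n rest

/-- Two words agree at the points of a list. -/
def sameAt (T : ℕ → ℕ → ℕ) (base : List ℕ) (v w : List ℕ) : Bool :=
  base.all fun b => runR T v b == runR T w b

/-- Product of the conjugates of `x` by the words of `hs`. -/
def conjWord (x : List ℕ) (hs : List (List ℕ)) : List ℕ :=
  (hs.map fun h => h ++ x ++ h.reverse).flatten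

/-- A claim that the generator `y` is a product of conjugates of the word `src`. -/
structure WItem where
  /-- the generator -/
  y : ℕ
  /-- the source: `none` for the given element, otherwise an earlier generator -/
  src : Option ℕ
  /-- the conjugating words -/
  hs : List (List ℕ)

/-- The source word of an item. -/
def WItem.srcWord (i : WItem) (x : List ℕ) : List ℕ :=
  match i.src with
  | none => x
  | some z => [z]

/-- Check the items. -/
def itemsW (T : ℕ → ℕ → ℕ) (base : List ℕ) (ng : ℕ) (x : List ℕ) : List WItem → List ℕ → Bool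
  | [], known => allIn (fun y => known.elem y) 0 ng
  | i :: rest, known =>
    (match i.src with
      | none => true
      | some z => known.elem z) &&
      sameAt T base [i.y] (conjWord (i.srcWord x) i.hs) && itemsW T base ng x rest (i.y :: known)

namespace Cert

variable {G : Type*} [Group G] {H : Subgroup G} (C : Cert G H)

/-- The orbit sizes times the pointwise stabilizer of the base bound the image from below. -/
theorem chainW_le : ∀ (ls : List WLevel) (K : Subgroup (Equiv.Perm (Fin C.n))),
    chainW C.T C.n ls = true → (∀ l ∈ ls, ∀ u ∈ l.U, C.ρ (u.map C.g).prod ∈ K) →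
    ∃ K' : Subgroup (Equiv.Perm (Fin C.n)),
      (∀ σ ∈ K, (∀ l ∈ ls, ∀ c : Fin C.n, (c : ℕ) = l.b → σ c = c) → σ ∈ K') ∧
      (ls.map WLevel.sz).prod * Nat.card K' ≤ Nat.card K := by
  classical
  intro ls
  induction ls with
  | nil => exact fun K _ _ => ⟨K, fun σ hσ _ => hσ, by simp⟩
  | cons l rest ih =>
    intro K hl hU
    simp only [chainW, Bool.and_eq_true, List.all_eq_true, Nat.blt_eq, beq_iff_eq] at hl
    obtain ⟨⟨⟨⟨hb, hfix⟩, hgrow⟩, hcnt⟩, hrest⟩ := hl
    set b : Fin C.n := ⟨l.b, hb⟩
    let K₁ : Subgroup (Equiv.Perm (Fin C.n)) := K ⊓ MulAction.stabilizer _ b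
    obtain ⟨K', hK', hle⟩ := ih K₁ hrest fun r hr u hu => by
      refine ⟨hU r (List.mem_cons_of_mem _ hr) u hu, ?_⟩
      show C.ρ (u.map C.g).prod b = b
      apply Fin.ext
      rw [prod_ρ_val]
      exact hfix r hr u hu
    refine ⟨K', fun σ hσ hall => hK' σ ⟨hσ, ?_⟩ fun r hr => hall r (List.mem_cons_of_mem _ hr), ?_⟩
    · show σ b = b
      exact hall l List.mem_cons_self b rfl
    have horb : (l.sz : ℕ) ≤ Nat.card (MulAction.orbit K b) := by
      rw [Nat.card_coe_set_eq]
      have hmem : ∀ (g : List ℕ) (seen : ℕ), growOK C.T l.U l.m g seen = true →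
          (∀ c : ℕ, seen.testBit c = true → ∃ d ∈ MulAction.orbit K b, (d : ℕ) = c) →
          ∀ c : ℕ, l.m.testBit c = true → ∃ d ∈ MulAction.orbit K b, (d : ℕ) = c := by
        intro g
        induction g with
        | nil =>
          intro seen hg hseen c hc
          simp only [growOK, beq_iff_eq] at hg
          exact hseen c (hg ▸ hc)
        | cons e g ihg =>
          intro seen hg hseen
          simp only [growOK, Bool.and_eq_true, beq_iff_eq] at hg
          obtain ⟨⟨hbit, he⟩, hg⟩ := hg
          apply ihg _ hg
          intro c hc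
          rw [Nat.testBit_lor, Bool.or_eq_true, Nat.testBit_two_pow, decide_eq_true_iff] at hc
          rcases hc with hc | hc
          · exact hseen c hc
          obtain ⟨d, hd, hdc⟩ := hseen _ hbit
          subst hc
          by_cases hi : fld e 2 < l.U.length
          · refine ⟨C.ρ ((l.U[fld e 2]).map C.g).prod d, ?_, ?_⟩
            · obtain ⟨k, rfl⟩ := hd
              exact ⟨⟨_, hU l List.mem_cons_self _ (List.getElem_mem hi)⟩ * k,
                by show (_ * k) • b = _; rw [mul_smul]; rfl⟩
            · rw [prod_ρ_val, hdc, ← he, List.getD_eq_getElem _ _ hi]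
          · rw [List.getD_eq_default _ _ (by omega)] at he
            exact ⟨d, hd, hdc.trans he⟩
      have hall := hmem _ _ hgrow (fun c hc => by
        rw [Nat.testBit_two_pow, decide_eq_true_iff] at hc
        exact ⟨b, MulAction.mem_orbit_self b, hc⟩)
      have hcount : ∀ (k lo : ℕ), countIn l.m.testBit lo k =
          ((Finset.Ico lo (lo + k)).filter fun c => l.m.testBit c = true).card := by
        intro k
        induction k with
        | zero => intro lo; simp [countIn]
        | succ k ihk =>
          intro lo
          have hins : Finset.Ico lo (lo + (k + 1)) =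
              insert lo (Finset.Ico (lo + 1) (lo + 1 + k)) := by
            ext; simp; omega
          rw [countIn, ihk, hins, Finset.filter_insert]
          rcases Bool.eq_false_or_eq_true (l.m.testBit lo) with hh | hh <;> simp [hh]
      rw [← hcnt, hcount, ← Set.ncard_coe_finset,
        ← Set.ncard_image_of_injective (MulAction.orbit K b) Fin.val_injective]
      refine Set.ncard_le_ncard ?_ (Set.toFinite _)
      intro c hc
      simp only [Finset.coe_filter, Finset.mem_Ico, Set.mem_setOf_eq] at hc
      obtain ⟨d, hd, hdc⟩ := hall c hc.2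
      exact ⟨d, hd, hdc⟩
    have hst : Nat.card (MulAction.stabilizer K b) = Nat.card K₁ := by
      refine Nat.card_congr ⟨fun x => ⟨x.1.1, x.1.2, x.2⟩, fun x => ⟨⟨x.1, x.2.1⟩, x.2.2⟩,
        fun _ => rfl, fun _ => rfl⟩
    rw [List.map_cons, List.prod_cons, mul_assoc,
      ← Nat.card_congr (MulAction.orbitProdStabilizerEquivGroup K b), Nat.card_prod, hst]
    exact Nat.mul_le_mul horb hle

/-- Faithfulness, the order, and elements being determined by the images of the base. -/
theorem faithful_of_chainW [Finite G] {ls : List WLevel} (hls : chainW C.T C.n ls = true) {o : ℕ}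
    (ho : (ls.map WLevel.sz).prod = o) (hpos : 0 < o) (hle : Nat.card G ≤ o) :
    Function.Injective C.ρ ∧ Nat.card G = o ∧ ∀ v w : List ℕ,
      sameAt C.T (ls.map WLevel.b) v w = true → (v.map C.g).prod = (w.map C.g).prod := by
  classical
  obtain ⟨K', hK', hle'⟩ := C.chainW_le ls C.ρ.range hls fun l _ u _ => ⟨_, rfl⟩
  rw [ho] at hle'
  have hK'pos : 0 < Nat.card K' := Nat.card_pos
  have h2 : Nat.card C.ρ.range ≤ Nat.card G :=
    Nat.card_le_card_of_surjective _ C.ρ.rangeRestrict_surjective
  have h3 : o ≤ o * Nat.card K' := Nat.le_mul_of_pos_right o hK'pos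
  have hcard : Nat.card G = Nat.card C.ρ.range := by omega
  have hinj : Function.Injective C.ρ := MonoidHom.rangeRestrict_injective_iff.1
    ((Nat.bijective_iff_surjective_and_card C.ρ.rangeRestrict).2
      ⟨C.ρ.rangeRestrict_surjective, hcard⟩).1
  have hK1 : Nat.card K' = 1 := by
    by_contra h
    have : o * 2 ≤ o * Nat.card K' := Nat.mul_le_mul_left o (by omega)
    omega
  refine ⟨hinj, by omega, fun v w hvw => hinj ?_⟩
  have hmem : (C.ρ (v.map C.g).prod)⁻¹ * C.ρ (w.map C.g).prod ∈ K' := by
    refine hK' _ (mul_mem (inv_mem ⟨_, rfl⟩) ⟨_, rfl⟩) fun l hl c hc => ?_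
    have hb := List.all_eq_true.1 hvw l.b (List.mem_map.2 ⟨l, hl, rfl⟩)
    rw [beq_iff_eq] at hb
    have e : C.ρ (w.map C.g).prod c = C.ρ (v.map C.g).prod c :=
      Fin.ext (by rw [prod_ρ_val, prod_ρ_val, hc, hb])
    rw [Equiv.Perm.mul_apply, e, Equiv.Perm.inv_def, Equiv.symm_apply_apply]
  have hbot : K' = ⊥ := Subgroup.card_eq_one.1 hK1
  rw [hbot, Subgroup.mem_bot, inv_mul_eq_one] at hmem
  exact hmem

/-- Simplicity from transitivity and conjugate-product words. -/
theorem isSimpleGroup_of_words [Finite G] [Nontrivial G] {base : List ℕ}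
    (heq : ∀ v w : List ℕ, sameAt C.T base v w = true → (v.map C.g).prod = (w.map C.g).prod)
    (htr : ∀ N : Subgroup G, N.Normal → N ≠ ⊥ → H ⊔ N = ⊤)
    {x : List ℕ} {p : ℕ} (hp : (Nat.card H).Coprime p)
    (hxp : sameAt C.T base (List.replicate p x).flatten [] = true)
    (items : List WItem) (hit : itemsW C.T base C.ng x items [] = true) : IsSimpleGroup G := by
  classical
  refine ⟨fun N hN => ?_⟩
  by_cases hbot : N = ⊥
  · exact Or.inl hbot
  refine Or.inr ?_
  have hJtop := htr N hN hbot
  have hidx : N.index ∣ Nat.card H := by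
    have e : N.index = N.relIndex H := by
      rw [← Subgroup.relIndex_top_right, ← hJtop, Subgroup.relIndex_sup_right]
    rw [e]
    exact Subgroup.relIndex_dvd_card N H
  have hxN : (x.map C.g).prod ∈ N := by
    have hpow : (x.map C.g).prod ^ p = 1 := by
      have h := heq _ _ hxp
      rw [List.map_flatten, List.map_replicate, List.prod_flatten, List.map_replicate,
        List.prod_replicate] at h
      simpa using h
    have h1 : (QuotientGroup.mk' N (x.map C.g).prod) ^ p = 1 := by rw [← map_pow, hpow, map_one]
    have h2 : (QuotientGroup.mk' N (x.map C.g).prod) ^ (Nat.card H) = 1 := by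
      obtain ⟨d, hd⟩ := hidx
      rw [hd, Subgroup.index_eq_card, pow_mul, pow_card_eq_one', one_pow]
    have h3 := pow_gcd_eq_one.2 ⟨h2, h1⟩
    rw [hp, pow_one] at h3
    exact (QuotientGroup.eq_one_iff _).1 h3
  have hconj : ∀ (z : List ℕ), (z.map C.g).prod ∈ N → ∀ hs : List (List ℕ),
      ((conjWord z hs).map C.g).prod ∈ N := by
    intro z hz hs
    induction hs with
    | nil => simp [conjWord, one_mem]
    | cons h hs ih =>
      have hrev : (h.reverse.map C.g).prod = ((h.map C.g).prod)⁻¹ := by
        induction h with
        | nil => simp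
        | cons a h ih' =>
          rw [List.reverse_cons, List.map_append, List.prod_append, ih', List.map_cons,
            List.map_cons, List.prod_cons, List.prod_cons, List.map_nil, List.prod_nil, mul_one,
            mul_inv_rev, inv_eq_of_mul_eq_one_right (C.g_sq a)]
      have e : conjWord z (h :: hs) = (h ++ z ++ h.reverse) ++ conjWord z hs := by
        simp [conjWord]
      rw [e, List.map_append, List.prod_append]
      refine mul_mem ?_ ih
      rw [List.map_append, List.map_append, List.prod_append, List.prod_append, hrev]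
      exact hN.conj_mem _ hz _
  have hall : ∀ (items : List WItem) (known : List ℕ),
      itemsW C.T base C.ng x items known = true →
      (∀ k ∈ known, C.g k ∈ N) → ∀ y, y < C.ng → C.g y ∈ N := by
    intro items
    induction items with
    | nil =>
      intro known hk hmem y hy
      exact hmem y (List.elem_iff.1 ((allIn_iff _ _ _).1 hk y (Nat.zero_le _) (by omega)))
    | cons i rest ih =>
      intro known hk hmem
      simp only [itemsW, Bool.and_eq_true] at hk
      obtain ⟨⟨hsrc, hsame⟩, hrest⟩ := hk
      refine ih _ hrest fun k hkm => ?_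
      rcases List.mem_cons.1 hkm with rfl | hkm
      swap
      · exact hmem k hkm
      have hz : ((i.srcWord x).map C.g).prod ∈ N := by
        unfold WItem.srcWord
        split
        · exact hxN
        · rename_i z heqz
          rw [heqz] at hsrc
          simpa using hmem z (List.elem_iff.1 hsrc)
      have h := heq _ _ hsame
      simp only [List.map_cons, List.map_nil, List.prod_cons, List.prod_nil, mul_one] at h
      rw [h]
      exact hconj _ hz _
  rw [eq_top_iff, ← C.g_gen, Subgroup.closure_le]
  rintro _ ⟨y, rfl⟩
  by_cases hy : y < C.ng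
  · exact hall items [] hit (by simp) y hy
  · rw [C.g_high y (by omega)]
    exact one_mem N

end Cert

end H29.CosetCert
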